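import Mathlib
import Groth.Prelude.Def_W4c1limliniiiiRamP1

/-!
# Pencils with prescribed ramification at points of the line
-/

set_option autoImplicit false
universe u

namespace Groth.Agent.RamP1

open Polynomial W4c1limliniiii

variable {k : Type u} [Field k]

theorem wronskian_comb (F G : k[X]) (a b c e : k) :
    wronskian (a • F + b • G) (c • F + e • G) = (a * e - b * c) • wronskian F G := by
  simp only [wronskian, derivative_add, derivative_smul]
  simp only [smul_eq_C_mul, map_sub, map_mul]
  ring

theorem li_of_wronskian_ne_zero {F G : k[X]} (h : wronskian F G ≠ 0) : LinearIndependent k ![F, G] := by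
  rw [LinearIndependent.pair_iff]
  intro a b hab
  constructor
  · by_contra ha
    refine h ?_
    have hF : F = (-(b / a)) • G + (0 : k) • G := by
      have h1 := congrArg (fun x => a⁻¹ • x) hab
      simp only [smul_add, smul_smul, smul_zero, inv_mul_cancel₀ ha, one_smul] at h1
      rw [zero_smul, add_zero, neg_smul, eq_neg_iff_add_eq_zero, div_eq_inv_mul]
      exact h1
    rw [hF]
    simp [wronskian, smul_eq_C_mul]
    ring
  · by_contra hb
    refine h ?_
    have hG : G = (-(a / b)) • F := by
      have h1 := congrArg (fun x => b⁻¹ • x) hab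
      simp only [smul_add, smul_smul, smul_zero, inv_mul_cancel₀ hb, one_smul] at h1
      rw [neg_smul, eq_neg_iff_add_eq_zero, div_eq_inv_mul, add_comm]
      exact h1
    rw [hG]
    simp [wronskian, smul_eq_C_mul]
    ring

theorem exists_basis {V : Submodule k k[X]} (hfr : Module.finrank k V = 2) {s : k[X]} (hs : s ∈ V) (hs0 : s ≠ 0) :
    ∃ t ∈ V, LinearIndependent k ![s, t] ∧ V = Submodule.span k {s, t} := by
  haveI : FiniteDimensional k V := Module.finite_of_finrank_eq_succ hfr
  obtain ⟨t, ht, hts⟩ : ∃ t ∈ V, t ∉ Submodule.span k {s} := by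
    by_contra h
    push Not at h
    have := Submodule.finrank_mono (show V ≤ Submodule.span k {s} from h)
    rw [hfr, finrank_span_singleton hs0] at this
    omega
  have hli : LinearIndependent k ![s, t] := by
    rw [LinearIndependent.pair_iff' hs0]
    exact fun a ha => hts (Submodule.mem_span_singleton.2 ⟨a, ha⟩)
  refine ⟨t, ht, hli, ?_⟩
  have hle : Submodule.span k {s, t} ≤ V := Submodule.span_le.2 (by simp [Set.insert_subset_iff, hs, ht])
  refine (Submodule.eq_of_le_of_finrank_eq hle ?_).symm
  rw [hfr, ← Matrix.range_cons_cons_empty s t ![], finrank_span_eq_card hli, Fintype.card_fin]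

theorem finrank_span_pair {F G : k[X]} (hli : LinearIndependent k ![F, G]) :
    Module.finrank k (Submodule.span k {F, G}) = 2 := by
  rw [← Matrix.range_cons_cons_empty F G ![], finrank_span_eq_card hli, Fintype.card_fin]

theorem isSeparable_span_iff (F G : k[X]) :
    IsSeparable (Submodule.span k {F, G}) ↔ wronskian F G ≠ 0 := by
  constructor
  · rintro ⟨s, hs, t, ht, hW⟩ h0
    obtain ⟨a, b, rfl⟩ := Submodule.mem_span_pair.1 hs
    obtain ⟨c, e, rfl⟩ := Submodule.mem_span_pair.1 ht
    exact hW (by rw [wronskian_comb, h0, smul_zero])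
  · exact fun h => ⟨F, Submodule.subset_span (by simp), G, Submodule.subset_span (by simp), h⟩

theorem natDegree_le_of_mem {d : ℕ} {V : Submodule k k[X]} (hV : V ≤ degreeLE k d) {s : k[X]} (hs : s ∈ V) :
    s.natDegree ≤ d :=
  natDegree_le_iff_degree_le.2 (mem_degreeLE.1 (hV hs))

theorem natDegree_wronskian_le {m : ℕ} {F G : k[X]} (hF : F.natDegree ≤ m) (hG : G.natDegree ≤ m)
    (h : wronskian F G ≠ 0) : (wronskian F G).natDegree + 2 ≤ 2 * m := by
  have hm : 1 ≤ m := by
    by_contra hm
    refine h ?_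
    rw [eq_C_of_natDegree_le_zero (p := F) (by omega), eq_C_of_natDegree_le_zero (p := G) (by omega)]
    simp [wronskian]
  have hF' : (derivative F).natDegree ≤ m - 1 := (natDegree_derivative_le F).trans (by omega)
  have hG' : (derivative G).natDegree ≤ m - 1 := (natDegree_derivative_le G).trans (by omega)
  have h1 : (wronskian F G).natDegree ≤ 2 * m - 2 := by
    rw [natDegree_le_iff_coeff_eq_zero]
    intro N hN
    rcases Nat.lt_or_ge (2 * m - 1) N with hlt | hge
    · refine coeff_eq_zero_of_natDegree_lt (lt_of_le_of_lt ?_ hlt)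
      refine (natDegree_sub_le _ _).trans (max_le ?_ ?_) <;> refine natDegree_mul_le.trans ?_ <;> omega
    · obtain rfl : N = m + (m - 1) := by omega
      rw [wronskian, coeff_sub, coeff_mul_add_eq_of_natDegree_le hF hG',
        show m + (m - 1) = (m - 1) + m by omega, coeff_mul_add_eq_of_natDegree_le hF' hG,
        coeff_derivative, coeff_derivative, Nat.sub_add_cancel hm]
      ring
  omega

theorem dvd_wronskian {a : k} {e : ℕ} {s : k[X]} (h : (X - C a) ^ e ∣ s) (t : k[X]) :
    (X - C a) ^ (e - 1) ∣ wronskian s t :=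
  dvd_sub (((pow_dvd_pow _ (Nat.sub_le e 1)).trans h).mul_right _)
    ((pow_sub_one_dvd_derivative_of_pow_dvd h).mul_right _)

theorem dvd_wronskian_of_root {a : k} {e : ℕ} {s t : k[X]} (h : (X - C a) ^ e ∣ s) (ht : X - C a ∣ t) :
    (X - C a) ^ e ∣ wronskian s t := by
  refine dvd_sub (h.mul_right _) ?_
  rcases Nat.eq_zero_or_pos e with rfl | he
  · simp
  · have : (X - C a) ^ (e - 1) * (X - C a) ∣ derivative s * t :=
      mul_dvd_mul (pow_sub_one_dvd_derivative_of_pow_dvd h) ht
    rwa [← pow_succ, Nat.sub_add_cancel he] at this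

theorem sum_le_natDegree {n : ℕ} {P : Fin n → k} (hP : Function.Injective P) {f : Fin n → ℕ} {W : k[X]}
    (hW : W ≠ 0) (h : ∀ i, (X - C (P i)) ^ f i ∣ W) : ∑ i, f i ≤ W.natDegree := by
  have hdvd : ∏ i, (X - C (P i)) ^ f i ∣ W :=
    Finset.prod_dvd_of_coprime (fun i _ j _ hij => (pairwise_coprime_X_sub_C hP hij).pow) fun i _ => h i
  have := natDegree_le_of_dvd hdvd hW
  rwa [natDegree_prod_of_monic _ _ fun i _ => (monic_X_sub_C _).pow _,
    Finset.sum_congr rfl fun i _ => by rw [natDegree_pow, natDegree_X_sub_C, mul_one]] at this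

theorem dvd_wronskian_of_schubert {V : Submodule k k[X]} (hfr : Module.finrank k V = 2) {F G : k[X]}
    (hspan : V = Submodule.span k {F, G}) {a : k} {e : ℕ} {s : k[X]} (hs : s ∈ V) (hs0 : s ≠ 0)
    (he : (X - C a) ^ e ∣ s) : (X - C a) ^ (e - 1) ∣ wronskian F G := by
  obtain ⟨t, ht, hli, hst⟩ := exists_basis hfr hs hs0
  have hF : F ∈ Submodule.span k {s, t} := hst ▸ hspan ▸ Submodule.subset_span (by simp)
  have hG : G ∈ Submodule.span k {s, t} := hst ▸ hspan ▸ Submodule.subset_span (by simp)
  obtain ⟨a₁, b₁, rfl⟩ := Submodule.mem_span_pair.1 hF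
  obtain ⟨a₂, b₂, rfl⟩ := Submodule.mem_span_pair.1 hG
  rw [wronskian_comb, smul_eq_C_mul]
  exact (dvd_wronskian he t).mul_left _

theorem two_le {p d n : ℕ} {e : Fin n → ℕ} (he : Admissible p d e) (i : Fin n) : 2 ≤ e i := (he.1 i).1

theorem sum_sub_one {p d n : ℕ} {e : Fin n → ℕ} (he : Admissible p d e) :
    (∑ i, (e i - 1)) + 2 = 2 * d := by
  have h1 : ∑ i, (e i - 1) + ∑ _i : Fin n, 1 = ∑ i, e i := by
    rw [← Finset.sum_add_distrib]
    exact Finset.sum_congr rfl fun i _ => by have := two_le he i; omega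
  simp at h1
  have := he.2
  omega

theorem mem_ramMaps {p d n : ℕ} {P : Fin n → k} (hP : Function.Injective P) {e : Fin n → ℕ}
    (he : Admissible p d e) {V : Submodule k k[X]} (hV : V ≤ degreeLE k d) (hfr : Module.finrank k V = 2)
    (hsep : IsSeparable V) (hsch : ∀ i, ∃ s ∈ V, s ≠ 0 ∧ e i ≤ rootMultiplicity (P i) s) :
    V ∈ ramMaps d P e := by
  classical
  have hsum := sum_sub_one he
  choose s hs hs0 hse using hsch
  have hsd : ∀ i, (X - C (P i)) ^ e i ∣ s i := fun i => (le_rootMultiplicity_iff (hs0 i)).1 (hse i)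
  have key : ∀ (F G : k[X]), V = Submodule.span k {F, G} →
      wronskian F G ≠ 0 ∧ (wronskian F G).natDegree + 2 ≤ 2 * d ∧
        ∀ i, (X - C (P i)) ^ (e i - 1) ∣ wronskian F G := by
    intro F G h
    have h0 : wronskian F G ≠ 0 := (isSeparable_span_iff F G).1 (h ▸ hsep)
    exact ⟨h0, natDegree_wronskian_le (natDegree_le_of_mem hV (h ▸ Submodule.subset_span (by simp)))
      (natDegree_le_of_mem hV (h ▸ Submodule.subset_span (by simp))) h0,
      fun i => dvd_wronskian_of_schubert hfr h (hs i) (hs0 i) (hsd i)⟩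
  refine ⟨⟨hV, hfr, ?_, ?_⟩, hsep, fun i => ⟨⟨s i, hs i, hs0 i, hse i⟩, ?_⟩⟩
  · by_contra hno
    push Not at hno
    obtain ⟨F, hF, G, hG, hW⟩ := hsep
    have hd1 : ∀ u ∈ V, u.natDegree ≤ d - 1 := fun u hu => by
      have := natDegree_le_of_mem hV hu
      have := hno u hu
      omega
    have h1 := natDegree_wronskian_le (hd1 F hF) (hd1 G hG) hW
    have hspan : V = Submodule.span k {F, G} := by
      have hle : Submodule.span k {F, G} ≤ V := Submodule.span_le.2 (by simp [Set.insert_subset_iff, hF, hG])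
      haveI : FiniteDimensional k V := Module.finite_of_finrank_eq_succ hfr
      exact (Submodule.eq_of_le_of_finrank_eq hle (by rw [hfr, finrank_span_pair (li_of_wronskian_ne_zero hW)])).symm
    have := sum_le_natDegree hP (key F G hspan).1 (key F G hspan).2.2
    omega
  · intro a
    by_contra hall
    push Not at hall
    obtain ⟨F, hF, hF0⟩ : ∃ u ∈ V, u ≠ 0 := by
      obtain ⟨F, hF, G, hG, hW⟩ := hsep
      exact ⟨F, hF, fun h => hW (by rw [h, wronskian_zero_left])⟩
    obtain ⟨G, hG, -, hFG⟩ := exists_basis hfr hF hF0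
    obtain ⟨hW, hdeg, hdvd⟩ := key F G hFG
    by_cases ha : ∃ i, P i = a
    · obtain ⟨i, rfl⟩ := ha
      obtain ⟨t, ht, -, hst⟩ := exists_basis hfr (hs i) (hs0 i)
      obtain ⟨hW', hdeg', hdvd'⟩ := key _ _ hst
      have := sum_le_natDegree hP hW' (f := fun j => if j = i then e i else e j - 1) fun j => by
        split_ifs with hj
        · subst hj
          exact dvd_wronskian_of_root (hsd j) (dvd_iff_isRoot.2 (hall t ht))
        · exact hdvd' j
      have h2 : ∑ j, (if j = i then e i else e j - 1) = (∑ j, (e j - 1)) + 1 := by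
        rw [← Finset.add_sum_erase _ _ (Finset.mem_univ i), ← Finset.add_sum_erase _ (fun j => e j - 1) (Finset.mem_univ i),
          if_pos rfl, Finset.sum_congr rfl fun j hj => if_neg (Finset.ne_of_mem_erase hj)]
        have := two_le he i
        omega
      omega
    · push Not at ha
      have hP' : Function.Injective (Fin.cons a P : Fin (n + 1) → k) :=
        Fin.cons_injective_iff.2 ⟨fun ⟨i, hi⟩ => ha i hi, hP⟩
      have := sum_le_natDegree hP' hW (f := Fin.cons 1 fun i => e i - 1) fun j => by
        refine Fin.cases ?_ ?_ j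
        · have : (X - C a) ^ 1 ∣ F := by rw [pow_one]; exact dvd_iff_isRoot.2 (hall F hF)
          simpa using dvd_wronskian_of_root this (dvd_iff_isRoot.2 (hall G hG))
        · intro i; simpa using hdvd i
      rw [Fin.sum_univ_succ] at this
      simp only [Fin.cons_zero, Fin.cons_succ] at this
      omega
  · intro u hu hu0
    by_contra hlt
    push Not at hlt
    obtain ⟨t, ht, -, hst⟩ := exists_basis hfr hu hu0
    obtain ⟨hW', hdeg', hdvd'⟩ := key _ _ hst
    have hud : (X - C (P i)) ^ (e i + 1) ∣ u := (le_rootMultiplicity_iff hu0).1 hlt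
    have := sum_le_natDegree hP hW' (f := fun j => if j = i then e i else e j - 1) fun j => by
      split_ifs with hj
      · subst hj
        have := dvd_wronskian hud t
        rwa [Nat.add_sub_cancel] at this
      · exact hdvd' j
    have h2 : ∑ j, (if j = i then e i else e j - 1) = (∑ j, (e j - 1)) + 1 := by
      rw [← Finset.add_sum_erase _ _ (Finset.mem_univ i), ← Finset.add_sum_erase _ (fun j => e j - 1) (Finset.mem_univ i),
        if_pos rfl, Finset.sum_congr rfl fun j hj => if_neg (Finset.ne_of_mem_erase hj)]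
      have := two_le he i
      omega
    omega

/-- In small degree every pencil is separable. -/
theorem isSeparable_of_small {p d : ℕ} [CharP k p] (hp : p = 0 ∨ d < p) {V : Submodule k k[X]}
    (hV : V ≤ degreeLE k d) (hfr : Module.finrank k V = 2) : IsSeparable V := by
  classical
  obtain ⟨s, t, hs, ht, hs0, hlt⟩ : ∃ s t, s ∈ V ∧ t ∈ V ∧ s ≠ 0 ∧ s.natDegree < t.natDegree := by
    haveI : FiniteDimensional k V := Module.finite_of_finrank_eq_succ hfr
    obtain ⟨F, hF0⟩ : ∃ F : V, F ≠ 0 := by
      haveI : Nontrivial V := Module.nontrivial_of_finrank_eq_succ hfr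
      exact exists_ne 0
    have hF0' : (F : k[X]) ≠ 0 := fun h => hF0 (Subtype.ext h)
    obtain ⟨G, hG, hli, -⟩ := exists_basis hfr F.2 hF0'
    have hG0 : G ≠ 0 := by simpa using hli.ne_zero 1
    rcases lt_trichotomy (F : k[X]).natDegree G.natDegree with h | h | h
    · exact ⟨_, _, F.2, hG, hF0', h⟩
    · set c := G.leadingCoeff / (F : k[X]).leadingCoeff
      have hne : G - c • (F : k[X]) ≠ 0 := by
        intro h0
        rw [LinearIndependent.pair_iff] at hli
        exact one_ne_zero (hli (-c) 1 (by rw [neg_smul, one_smul, ← h0, sub_eq_add_neg, add_comm])).2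
      refine ⟨_, _, V.sub_mem hG (V.smul_mem c F.2), F.2, hne, ?_⟩
      rw [h]
      refine lt_of_le_of_ne ((natDegree_sub_le _ _).trans (max_le le_rfl ((natDegree_smul_le _ _).trans h.le))) ?_
      intro heq
      have h2 : (G - c • (F : k[X])).coeff G.natDegree = 0 := by
        rw [coeff_sub, coeff_smul]
        conv_lhs => arg 2; rw [← h]
        rw [smul_eq_mul, coeff_natDegree, coeff_natDegree, div_mul_cancel₀ _ (leadingCoeff_ne_zero.2 hF0'), sub_self]
      rw [← heq, coeff_natDegree, leadingCoeff_eq_zero] at h2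
      exact hne h2
    · exact ⟨_, _, hG, F.2, hG0, h⟩
  refine ⟨s, hs, t, ht, fun h0 => ?_⟩
  have ht0 : t ≠ 0 := by rintro rfl; simp at hlt
  have htd := natDegree_le_of_mem hV ht
  set a := s.natDegree with ha
  set b := t.natDegree with hb
  obtain ⟨j, hj⟩ : ∃ j, b = j + 1 := ⟨b - 1, by omega⟩
  have h1 := congrArg (fun w => w.coeff (a + j)) h0
  simp only [wronskian, coeff_sub, coeff_zero] at h1
  rw [coeff_mul_add_eq_of_natDegree_le le_rfl ((natDegree_derivative_le t).trans (by omega)),
    coeff_derivative, ← hj] at h1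
  have h2 : (derivative s * t).coeff (a + j) = (a : k) * (s.coeff a * t.coeff b) := by
    rcases Nat.eq_zero_or_pos a with ha0 | hapos
    · rw [eq_C_of_natDegree_eq_zero (p := s) (by omega), derivative_C, zero_mul, coeff_zero, ha0]
      simp
    · rw [show a + j = (a - 1) + b by omega,
        coeff_mul_add_eq_of_natDegree_le (natDegree_derivative_le s) le_rfl, coeff_derivative,
        Nat.sub_add_cancel hapos, Nat.cast_sub hapos]
      push_cast
      ring
  rw [h2] at h1
  have h3 : ((b - a : ℕ) : k) * (s.coeff a * t.coeff b) = 0 := by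
    rw [Nat.cast_sub hlt.le]
    have hjb : (j : k) + 1 = (b : k) := by rw [hj]; push_cast; ring
    rw [hjb] at h1
    linear_combination h1
  rcases mul_eq_zero.1 h3 with h4 | h4
  · rw [CharP.cast_eq_zero_iff k p] at h4
    rcases hp with rfl | hp
    · simp at h4; omega
    · exact absurd (Nat.le_of_dvd (by omega) h4) (by omega)
  · exact mul_ne_zero (by rw [ha, coeff_natDegree]; exact leadingCoeff_ne_zero.2 hs0)
      (by rw [hb, coeff_natDegree]; exact leadingCoeff_ne_zero.2 ht0) h4

end Groth.Agent.RamP1
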