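import Mathlib

/-!
# Fibres of a linear map on a cone missing its kernel
-/

set_option autoImplicit false
universe u

namespace Groth.Agent.RamP1

open MvPolynomial

variable {k : Type u} [Field k] [IsAlgClosed k] {σ : Type} [Fintype σ] {ι κ : Type}

theorem finite_of_cone (Q : ι → MvPolynomial σ k) (q : ι → ℕ) (hQ : ∀ i, (Q i).IsHomogeneous (q i))
    (ℓ : κ → MvPolynomial σ k) (hℓ : ∀ i, (ℓ i).IsHomogeneous 1)
    (hker : ∀ x : σ → k, (∀ i, eval x (Q i) = 0) → (∀ i, eval x (ℓ i) = 0) → x = 0) (c : κ → k) :
    {x : σ → k | (∀ i, eval x (Q i) = 0) ∧ ∀ i, eval x (ℓ i) = c i}.Finite := by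
  classical
  set Z := {x : σ → k | (∀ i, eval x (Q i) = 0) ∧ ∀ i, eval x (ℓ i) = c i} with hZ
  let ev : MvPolynomial σ k →ₗ[k] (Z → k) :=
    { toFun := fun f x => eval x.1 f
      map_add' := fun f g => by funext x; simp
      map_smul' := fun r f => by funext x; simp }
  have hev : ∀ f (x : Z), ev f x = eval x.1 f := fun _ _ => rfl
  let M : ℕ → Submodule k (Z → k) := fun D =>
    Submodule.span k (ev '' {f | ∃ j, j < D ∧ f.IsHomogeneous j})
  have hmul : ∀ (i D : ℕ) (a : MvPolynomial σ k), a.IsHomogeneous i → ∀ g ∈ M D, ev a * g ∈ M (i + D) := by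
    intro i D a ha g hg
    induction hg using Submodule.span_induction with
    | mem g hg =>
      obtain ⟨f, ⟨j, hj, hf⟩, rfl⟩ := hg
      refine Submodule.subset_span ⟨a * f, ⟨i + j, by omega, ha.mul hf⟩, ?_⟩
      funext x
      simp [hev]
    | zero => rw [mul_zero]; exact Submodule.zero_mem _
    | add g h _ _ hg hh => rw [mul_add]; exact Submodule.add_mem _ hg hh
    | smul r g _ hg => rw [mul_smul_comm]; exact Submodule.smul_mem _ r hg
  have hmono : ∀ {D D' : ℕ}, D ≤ D' → M D ≤ M D' := fun h => Submodule.span_mono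
    (Set.image_mono fun f ⟨j, hj, hf⟩ => ⟨j, by omega, hf⟩)
  set J := Ideal.span (Set.range Q ∪ Set.range ℓ) with hJ
  have hcomp : ∀ f ∈ J, ∀ N, ev (homogeneousComponent N f) ∈ M N := by
    intro f hf
    induction hf using Submodule.span_induction with
    | mem f hf =>
      intro N
      rcases hf with ⟨i, rfl⟩ | ⟨i, rfl⟩
      · rw [homogeneousComponent_of_mem (hQ i)]
        split_ifs
        · have : ev (Q i) = 0 := by funext x; exact x.2.1 i
          rw [this]; exact Submodule.zero_mem _
        · rw [map_zero]; exact Submodule.zero_mem _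
      · rw [homogeneousComponent_of_mem (hℓ i)]
        split_ifs with h
        · subst h
          refine Submodule.subset_span ⟨C (c i), ⟨0, by omega, isHomogeneous_C _ _⟩, ?_⟩
          funext x
          simp [hev, x.2.2 i]
        · rw [map_zero]; exact Submodule.zero_mem _
    | zero => intro N; simp
    | add f g _ _ hf hg => intro N; rw [map_add, map_add]; exact Submodule.add_mem _ (hf N) (hg N)
    | smul a f _ hf =>
      intro N
      rw [smul_eq_mul, ← sum_homogeneousComponent a, ← sum_homogeneousComponent f, Finset.sum_mul, map_sum, map_sum]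
      refine Submodule.sum_mem _ fun i _ => ?_
      rw [Finset.mul_sum, map_sum, map_sum]
      refine Submodule.sum_mem _ fun j _ => ?_
      rw [homogeneousComponent_of_mem ((homogeneousComponent_isHomogeneous i a).mul
        (homogeneousComponent_isHomogeneous j f))]
      split_ifs with h
      · subst h
        have : ev (homogeneousComponent i a * homogeneousComponent j f) =
            ev (homogeneousComponent i a) * ev (homogeneousComponent j f) := by funext x; simp [hev]
        rw [this]
        exact hmul i j _ (homogeneousComponent_isHomogeneous i a) _ (hf j)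
      · rw [map_zero]; exact Submodule.zero_mem _
  have hrad : ∀ j, X j ∈ J.radical := by
    intro j
    rw [← vanishingIdeal_zeroLocus_eq_radical (K := k)]
    rw [mem_vanishingIdeal_iff]
    intro x hx
    rw [mem_zeroLocus_iff] at hx
    have : x = 0 := hker x
      (fun i => by simpa [aeval_eq_eval] using hx (Q i) (Ideal.subset_span (Or.inl ⟨i, rfl⟩)))
      (fun i => by simpa [aeval_eq_eval] using hx (ℓ i) (Ideal.subset_span (Or.inr ⟨i, rfl⟩)))
    simp [this]
  choose e he using hrad
  set D := ∑ j, e j + 1 with hD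
  have hred : ∀ (m : ℕ) (α : σ →₀ ℕ), α.degree = m → ev (monomial α 1) ∈ M D := by
    intro m
    induction m using Nat.strong_induction_on with
    | _ m ih =>
      intro α hα
      rcases Nat.lt_or_ge m D with hlt | hge
      · exact Submodule.subset_span ⟨_, ⟨m, hlt, isHomogeneous_monomial _ hα⟩, rfl⟩
      obtain ⟨j, hj⟩ : ∃ j, e j ≤ α j := by
        by_contra hcon
        push Not at hcon
        have : ∑ j, α j ≤ ∑ j, e j := Finset.sum_le_sum fun j _ => (hcon j).le
        rw [← Finsupp.degree_eq_sum, hα] at this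
        omega
      have hsplit : (monomial α (1 : k)) = monomial (α - Finsupp.single j (e j)) 1 * X j ^ e j := by
        rw [X_pow_eq_monomial, monomial_mul, mul_one, tsub_add_cancel_of_le (Finsupp.single_le_iff.2 hj)]
      set β := α - Finsupp.single j (e j)
      have hdeg : β.degree + e j = m := by
        rw [← hα, ← tsub_add_cancel_of_le (Finsupp.single_le_iff.2 hj), map_add, Finsupp.degree_single]
      have h1 : ev (X j ^ e j) ∈ M (e j) := by
        have := hcomp _ (he j) (e j)
        rwa [homogeneousComponent_of_mem (isHomogeneous_X_pow j (e j)), if_pos rfl] at this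
      have h2 : ev (monomial α 1) = ev (monomial β 1) * ev (X j ^ e j) := by
        rw [hsplit]; funext x; simp [hev]
      rw [h2]
      have h3 := hmul _ _ _ (isHomogeneous_monomial (1 : k) (rfl : β.degree = β.degree)) _ h1
      rw [hdeg] at h3
      refine (Submodule.span_le.2 ?_) h3
      rintro _ ⟨f, ⟨i, hi, hf⟩, rfl⟩
      rw [f.as_sum, map_sum]
      refine Submodule.sum_mem _ fun γ hγ => ?_
      rw [show monomial γ (coeff γ f) = coeff γ f • monomial γ (1 : k) by rw [smul_monomial, smul_eq_mul, mul_one],
        map_smul]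
      refine Submodule.smul_mem _ _ (ih i hi γ ?_)
      have := hf (mem_support_iff.1 hγ)
      rw [← this, Finsupp.weight_apply, Finsupp.degree_apply, Finsupp.sum]
      simp
  have hall : ∀ f, ev f ∈ M D := by
    intro f
    rw [f.as_sum, map_sum]
    refine Submodule.sum_mem _ fun γ _ => ?_
    rw [show monomial γ (coeff γ f) = coeff γ f • monomial γ (1 : k) by rw [smul_monomial, smul_eq_mul, mul_one],
      map_smul]
    exact Submodule.smul_mem _ _ (hred _ γ rfl)
  haveI : FiniteDimensional k ↥(M D) := by
    refine Module.Finite.iff_fg.2 ?_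
    have hle : M D ≤ (MvPolynomial.restrictTotalDegree σ k D).map ev := Submodule.span_le.2 (by
      rintro _ ⟨f, ⟨j, hj, hf⟩, rfl⟩
      exact ⟨f, (mem_restrictTotalDegree _ _ _).2 (hf.totalDegree_le.trans hj.le), rfl⟩)
    exact Submodule.FG.of_le ((Module.Finite.iff_fg.1 inferInstance).map ev) hle
  refine Set.Finite.subset (Set.Finite.pi fun j : σ => (Set.Finite.image (fun r => r)
    (?_ : {y : k | ∃ x ∈ Z, x j = y}.Finite))) (fun x hx => Set.mem_univ_pi.2 fun j => ⟨x j, ⟨x, hx, rfl⟩, rfl⟩)
  have hnli : ¬ LinearIndependent k (fun i : Fin (Module.finrank k ↥(M D) + 1) =>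
      (⟨ev (X j ^ (i : ℕ)), hall _⟩ : ↥(M D))) := fun h => by
    have := h.fintype_card_le_finrank
    simp at this
  rw [Fintype.not_linearIndependent_iff] at hnli
  obtain ⟨g, hg, i₀, hi₀⟩ := hnli
  let P : Polynomial k := ∑ i : Fin (Module.finrank k ↥(M D) + 1), Polynomial.C (g i) * Polynomial.X ^ (i : ℕ)
  have hP : P ≠ 0 := fun h0 => hi₀ (by
    have := congrArg (fun p => Polynomial.coeff p i₀) h0
    simp only [P, Polynomial.finset_sum_coeff, Polynomial.coeff_C_mul_X_pow, Polynomial.coeff_zero] at this
    rw [Finset.sum_eq_single i₀ (fun b _ hb => if_neg fun h => hb (Fin.ext h).symm) (fun h => absurd (Finset.mem_univ _) h),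
      if_pos rfl] at this
    exact this)
  refine (Polynomial.finite_setOf_isRoot hP).subset ?_
  rintro y ⟨x, hx, rfl⟩
  have := congrFun (congrArg Subtype.val hg) ⟨x, hx⟩
  simp only [AddSubmonoidClass.coe_finset_sum, Submodule.coe_smul_of_tower, Finset.sum_apply, Pi.smul_apply,
    hev, eval_pow, eval_X, smul_eq_mul, ZeroMemClass.coe_zero, Pi.zero_apply] at this
  simp [P, Polynomial.eval_finset_sum, this]

end Groth.Agent.RamP1
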