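import Mathlib
import Groth.Agent.RamP1.Basic
import Groth.Agent.S19560
import Groth.Agent.S19561

/-!
# Deforming a pencil wildly ramified at infinity
-/

set_option autoImplicit false
universe u

namespace Groth.Agent.RamP1

open Polynomial W4c1limliniiii

variable {k : Type u} [Field k]

theorem empty_or_infinite [IsAlgClosed k] (p : ℕ) [Fact p.Prime] [CharP k p] (d n : ℕ) (P : Fin n → k)
    (e : Fin n → ℕ) (E : ℕ)
    (he : Admissible p d (Fin.cons E e : Fin (n + 1) → ℕ)) (hlt : ∀ i, e i < p) (hE : p < E) :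
    {V : Submodule k k[X] | V ∈ ramMaps d P e ∧ HasRamIdxInf d V E} = ∅ ∨
      {V : Submodule k k[X] | V ∈ ramMaps d P e ∧ HasRamIdxInf d V E}.Infinite := by
  classical
  rcases Set.eq_empty_or_nonempty {V : Submodule k k[X] | V ∈ ramMaps d P e ∧ HasRamIdxInf d V E} with h | ⟨V, hV, hI⟩
  · exact Or.inl h
  refine Or.inr ?_
  have hp := (Fact.out : p.Prime)
  have hEd : E ≤ d := by simpa using (he.1 0).2.1
  obtain ⟨⟨hle, hfr, ⟨F, hF, hFd⟩, hbpf⟩, hsep, hram⟩ := hV
  obtain ⟨⟨G, hG, hG0, hGd⟩, hGmin⟩ := hI
  have hGd' : G.natDegree + E = d := le_antisymm hGd (hGmin G hG hG0)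
  have hF0 : F ≠ 0 := by rintro rfl; simp at hFd; omega
  have hspan : V = Submodule.span k {F, G} := by
    have hli : LinearIndependent k ![F, G] := by
      rw [LinearIndependent.pair_iff' hF0]
      intro a ha
      rcases eq_or_ne a 0 with rfl | ha0
      · exact hG0 (by rw [← ha, zero_smul])
      · have := congrArg natDegree ha
        rw [natDegree_smul _ ha0] at this
        omega
    haveI : FiniteDimensional k V := Module.finite_of_finrank_eq_succ hfr
    exact (Submodule.eq_of_le_of_finrank_eq (Submodule.span_le.2 (by simp [Set.insert_subset_iff, hF, hG]))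
      (by rw [hfr, finrank_span_pair hli])).symm
  have hW : wronskian F G ≠ 0 := (isSeparable_span_iff F G).1 (hspan ▸ hsep)
  have hmult : ∀ i, (wronskian F G).rootMultiplicity (P i) + 1 = e i := by
    intro i
    have h2 : 2 ≤ e i := by simpa using (he.1 i.succ).1
    obtain ⟨⟨s, hs, hs0, hse⟩, hmax⟩ := hram i
    have hse' : s.rootMultiplicity (P i) = e i := le_antisymm (hmax s hs hs0) hse
    obtain ⟨t, ht, -, hst⟩ := exists_basis hfr hs hs0
    obtain ⟨u, hu, hud⟩ : ∃ u, s = (X - C (P i)) ^ e i * u ∧ ¬ (X - C (P i)) ∣ u := by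
      obtain ⟨u, hu⟩ := pow_rootMultiplicity_dvd s (P i)
      rw [hse'] at hu
      refine ⟨u, hu, fun hd => ?_⟩
      have : (X - C (P i)) ^ (e i + 1) ∣ s := by rw [hu, pow_succ]; exact mul_dvd_mul_left _ hd
      have := (le_rootMultiplicity_iff hs0).2 this
      omega
    have hua : u.eval (P i) ≠ 0 := fun h => hud (dvd_iff_isRoot.2 h)
    have hta : t.eval (P i) ≠ 0 := by
      intro h0
      obtain ⟨r, hr, hra⟩ := hbpf (P i)
      rw [hst] at hr
      obtain ⟨x, y, rfl⟩ := Submodule.mem_span_pair.1 hr
      have hs00 : s.eval (P i) = 0 := by rw [hu]; simp [zero_pow (by omega : e i ≠ 0)]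
      exact hra (by simp [hs00, h0])
    obtain ⟨j, hj⟩ : ∃ j, e i = j + 1 := ⟨e i - 1, by omega⟩
    set R := (X - C (P i)) * (u * derivative t - derivative u * t) - C (e i : k) * u * t with hR
    have hfac : wronskian s t = (X - C (P i)) ^ j * R := by
      rw [hR, hu, hj, wronskian, derivative_mul, derivative_X_sub_C_pow, Nat.add_sub_cancel, pow_succ]
      ring
    have hek : (e i : k) ≠ 0 := fun h => by
      rw [CharP.cast_eq_zero_iff k p] at h
      exact absurd (Nat.le_of_dvd (by omega) h) (by have := hlt i; omega)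
    have hR0 : R.eval (P i) ≠ 0 := by simp [hR, hek, hua, hta]
    have hRne : R ≠ 0 := fun h => hR0 (by rw [h]; simp)
    obtain ⟨c₁, c₂, hsc⟩ := Submodule.mem_span_pair.1 (hspan ▸ hs : s ∈ Submodule.span k {F, G})
    obtain ⟨c₃, c₄, htc⟩ := Submodule.mem_span_pair.1 (hspan ▸ ht : t ∈ Submodule.span k {F, G})
    have hcomb : wronskian s t = C (c₁ * c₄ - c₂ * c₃) * wronskian F G := by
      rw [← hsc, ← htc, wronskian_comb, smul_eq_C_mul]
    have hne : wronskian s t ≠ 0 := by
      rw [hfac]; exact mul_ne_zero (pow_ne_zero _ (X_sub_C_ne_zero _)) hRne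
    have h1 : (wronskian s t).rootMultiplicity (P i) = j := by
      rw [hfac, rootMultiplicity_mul (mul_ne_zero (pow_ne_zero _ (X_sub_C_ne_zero _)) hRne),
        rootMultiplicity_X_sub_C_pow, rootMultiplicity_eq_zero hR0, add_zero]
    rw [hcomb] at h1 hne
    rw [rootMultiplicity_mul hne, rootMultiplicity_C, zero_add] at h1
    omega
  let H : k → k[X] := fun c => F + C c * (X ^ p * G)
  have hlow : ∀ c : k, (C c * (X ^ p * G)).natDegree < d := fun c => by
    refine (natDegree_C_mul_le _ _).trans_lt (natDegree_mul_le.trans_lt ?_)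
    rw [natDegree_X_pow]
    omega
  have hHd : ∀ c, (H c).natDegree = d := fun c => by
    rw [natDegree_add_eq_left_of_natDegree_lt (by rw [hFd]; exact hlow c), hFd]
  have hWc : ∀ c, wronskian (H c) G = wronskian F G := fun c => by
    simp [H, wronskian, derivative_pow, CharP.cast_eq_zero k[X] p]
    ring
  have hmem : ∀ c, Submodule.span k {H c, G} ∈
      {V : Submodule k k[X] | V ∈ ramMaps d P e ∧ HasRamIdxInf d V E} := by
    intro c
    have hli := li_of_wronskian_ne_zero (show wronskian (H c) G ≠ 0 by rw [hWc]; exact hW)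
    have hpencil : IsPencil d (Submodule.span k {H c, G}) := by
      refine ⟨Submodule.span_le.2 ?_, finrank_span_pair hli, ⟨H c, Submodule.subset_span (by simp), hHd c⟩, fun a => ?_⟩
      · simp only [Set.insert_subset_iff, Set.singleton_subset_iff, SetLike.mem_coe, mem_degreeLE]
        exact ⟨natDegree_le_iff_degree_le.1 (hHd c).le, natDegree_le_iff_degree_le.1 (by omega)⟩
      · by_contra hall
        push Not at hall
        have h1 := hall (H c) (Submodule.subset_span (by simp))
        have h2 := hall G (Submodule.subset_span (by simp))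
        obtain ⟨s, hs, hsa⟩ := hbpf a
        rw [hspan] at hs
        obtain ⟨x, y, rfl⟩ := Submodule.mem_span_pair.1 hs
        simp [H, h2] at h1
        exact hsa (by simp [h1, h2])
    refine ⟨⟨hpencil, (isSeparable_span_iff _ _).2 (by rw [hWc]; exact hW), fun i => ?_⟩, ?_⟩
    · refine (S19560.result k p d (H c) G hpencil (by rw [hWc]; exact hW) (P i) (e i) (by rw [hWc]; exact hmult i)
        (Or.inr ?_)).1
      have := hlt i
      omega
    · have h := S19561.result k (H c) G (by rw [hHd]; omega) (by rw [hHd]; exact hpencil)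
      rw [hHd] at h
      rwa [show d - G.natDegree = E by omega] at h
  refine Set.infinite_of_injective_forall_mem (f := fun c => Submodule.span k {H c, G}) ?_ hmem
  intro c c' hcc
  dsimp only at hcc
  have : H c ∈ Submodule.span k {H c', G} := hcc ▸ Submodule.subset_span (by simp)
  obtain ⟨a, b, hab⟩ := Submodule.mem_span_pair.1 this
  have h1 := congrArg (fun f => f.coeff d) hab
  have hco : ∀ x : k, (H x).coeff d = F.coeff d := fun x => by
    simp only [H, coeff_add, coeff_eq_zero_of_natDegree_lt (hlow x), add_zero]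
  have hGc : G.coeff d = 0 := coeff_eq_zero_of_natDegree_lt (by omega)
  simp only [coeff_add, coeff_smul, hco, hGc, smul_eq_mul, mul_zero, add_zero] at h1
  have hFc : F.coeff d ≠ 0 := by rw [← hFd, coeff_natDegree]; exact leadingCoeff_ne_zero.2 hF0
  have ha : a = 1 := mul_right_cancel₀ hFc (by rw [h1, one_mul])
  subst ha
  by_contra hne
  have h2 : C (c - c') * X ^ p * G = C b * G := by
    simp only [H, one_smul, smul_eq_C_mul, map_sub] at hab ⊢
    linear_combination -hab
  have h3 := congrArg natDegree (mul_right_cancel₀ hG0 h2)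
  rw [natDegree_C_mul (sub_ne_zero.2 hne), natDegree_X_pow, natDegree_C] at h3
  exact hp.ne_zero h3

end Groth.Agent.RamP1
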