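import Mathlib
import Groth.Agent.RamP1.Basic
import Groth.Agent.RamP1.ConeFin

/-!
# Finitely many pencils with given ramification in small degree
-/

set_option autoImplicit false
universe u

namespace Groth.Agent.RamP1

open Polynomial W4c1limliniiii

variable {k : Type u} [Field k]

/-- The Wronskian as a function of Plücker coordinates. -/
noncomputable def wr {d : ℕ} (p : Fin (d + 1) × Fin (d + 1) → k) : k[X] :=
  ∑ ab : Fin (d + 1) × Fin (d + 1), C (p ab) * (X ^ (ab.1 : ℕ) * derivative (X ^ (ab.2 : ℕ)))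

/-- A row of Plücker coordinates as a polynomial. -/
noncomputable def prow {d : ℕ} (p : Fin (d + 1) × Fin (d + 1) → k) (a : Fin (d + 1)) : k[X] :=
  ∑ c : Fin (d + 1), C (p (a, c)) * X ^ (c : ℕ)

theorem sum_coeff {d : ℕ} {F : k[X]} (hF : F ∈ degreeLE k d) :
    ∑ c : Fin (d + 1), C (F.coeff c) * X ^ (c : ℕ) = F := by
  conv_rhs => rw [F.as_sum_range_C_mul_X_pow'
    (show F.natDegree < d + 1 by have := natDegree_le_iff_degree_le.2 (mem_degreeLE.1 hF); omega)]
  exact Fin.sum_univ_eq_sum_range (fun i => C (F.coeff i) * X ^ i) (d + 1)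

theorem wr_wedge {d : ℕ} (B B' : Fin (d + 1) → k) :
    wr (fun ab => B ab.1 * B' ab.2 - B ab.2 * B' ab.1) =
      wronskian (∑ c, C (B c) * X ^ (c : ℕ)) (∑ c, C (B' c) * X ^ (c : ℕ)) := by
  have h : ∀ f : Fin (d + 1) → k, derivative (∑ c, C (f c) * X ^ (c : ℕ)) =
      ∑ c, C (f c) * derivative (X ^ (c : ℕ)) := fun f => by simp [derivative_sum]
  rw [wr, wronskian, h, h, mul_comm (∑ c, C (B c) * derivative (X ^ (c : ℕ))), Fintype.sum_mul_sum,
    Fintype.sum_mul_sum, Fintype.sum_prod_type]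
  simp only [← Finset.sum_sub_distrib]
  refine Finset.sum_congr rfl fun a _ => Finset.sum_congr rfl fun b _ => ?_
  rw [map_sub, map_mul, map_mul]
  ring

theorem coeff_sum_C_mul {d : ℕ} (f : Fin (d + 1) → k) (a : Fin (d + 1)) :
    (∑ c, C (f c) * X ^ (c : ℕ)).coeff a = f a := by
  rw [finset_sum_coeff, Finset.sum_eq_single a]
  · simp
  · intro b _ hb; rw [coeff_C_mul_X_pow, if_neg fun h => hb (Fin.ext h).symm]
  · simp

theorem finite_ramMaps [IsAlgClosed k] {p : ℕ} [CharP k p] {d n : ℕ} (P : Fin n → k) (hP : Function.Injective P)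
    (e : Fin n → ℕ) (he : Admissible p d e) (hp : p = 0 ∨ d < p) : (ramMaps d P e).Finite := by
  classical
  set T : k[X] := ∏ i, (X - C (P i)) ^ (e i - 1) with hT
  have hmon : T.Monic := monic_prod_of_monic _ _ fun i _ => (monic_X_sub_C _).pow _
  have hTd : T.natDegree + 2 = 2 * d := by
    rw [hT, natDegree_prod_of_monic _ _ fun i _ => (monic_X_sub_C _).pow _,
      Finset.sum_congr rfl fun i _ => by rw [natDegree_pow, natDegree_X_sub_C, mul_one], sum_sub_one he]
  let I := (Fin (d + 1) × Fin (d + 1))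
  let Q : (I × I) ⊕ I → MvPolynomial I k := Sum.elim
    (fun q => MvPolynomial.X q.2 * MvPolynomial.X q.1 -
      (MvPolynomial.X (q.1.1, q.2.1) * MvPolynomial.X (q.1.2, q.2.2) -
        MvPolynomial.X (q.1.1, q.2.2) * MvPolynomial.X (q.1.2, q.2.1)))
    (fun ab => MvPolynomial.X ab + MvPolynomial.X (ab.2, ab.1))
  let q : (I × I) ⊕ I → ℕ := Sum.elim (fun _ => 2) (fun _ => 1)
  let ℓ : ℕ → MvPolynomial I k := fun m =>
    ∑ ab : I, MvPolynomial.C ((X ^ (ab.1 : ℕ) * derivative (X ^ (ab.2 : ℕ)) : k[X]).coeff m) * MvPolynomial.X ab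
  have hℓ : ∀ x m, MvPolynomial.eval x (ℓ m) = (wr x).coeff m := by
    intro x m
    simp only [ℓ, wr, map_sum, finset_sum_coeff, coeff_C_mul, MvPolynomial.eval_mul, MvPolynomial.eval_C,
      MvPolynomial.eval_X]
    exact Finset.sum_congr rfl fun ab _ => mul_comm _ _
  have hQhom : ∀ i, (Q i).IsHomogeneous (q i) := by
    intro i
    rcases i with i | i
    · exact ((MvPolynomial.isHomogeneous_X k i.2).mul (MvPolynomial.isHomogeneous_X k i.1)).sub (((MvPolynomial.isHomogeneous_X k (i.1.1, i.2.1)).mul (MvPolynomial.isHomogeneous_X k (i.1.2, i.2.2))).sub ((MvPolynomial.isHomogeneous_X k (i.1.1, i.2.2)).mul (MvPolynomial.isHomogeneous_X k (i.1.2, i.2.1))))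
    · exact (MvPolynomial.isHomogeneous_X k i).add (MvPolynomial.isHomogeneous_X k (i.2, i.1))
  have hℓhom : ∀ m, (ℓ m).IsHomogeneous 1 := fun m =>
    MvPolynomial.IsHomogeneous.sum _ _ _ fun ab _ => MvPolynomial.isHomogeneous_C_mul_X _ _
  have hker : ∀ x : I → k, (∀ i, MvPolynomial.eval x (Q i) = 0) → (∀ m, MvPolynomial.eval x (ℓ m) = 0) → x = 0 := by
    intro x hx hl
    by_contra hx0
    obtain ⟨⟨a, b⟩, hab⟩ := Function.ne_iff.1 hx0
    change x (a, b) ≠ 0 at hab
    have hanti : ∀ i j, x (j, i) = -x (i, j) := fun i j => by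
      have := hx (Sum.inr (i, j))
      simp [Q] at this
      linear_combination this
    have hpl : ∀ c e, x (c, e) * x (a, b) = x (a, c) * x (b, e) - x (a, e) * x (b, c) := fun c e => by
      have := hx (Sum.inl ((a, b), (c, e)))
      simp [Q] at this
      linear_combination this
    have haa : x (a, a) * x (a, b) = 0 := by rw [hpl]; ring
    have hbb : x (b, b) * x (a, b) = 0 := by
      rw [hpl]; ring
    have haa' : x (a, a) = 0 := (mul_eq_zero.1 haa).resolve_right hab
    have hbb' : x (b, b) = 0 := (mul_eq_zero.1 hbb).resolve_right hab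
    have hli : LinearIndependent k ![prow x a, prow x b] := by
      rw [LinearIndependent.pair_iff]
      intro s t hst
      have h1 := congrArg (fun f => f.coeff (b : ℕ)) hst
      have h2 := congrArg (fun f => f.coeff (a : ℕ)) hst
      simp only [prow, coeff_add, coeff_smul, coeff_sum_C_mul, smul_eq_mul, coeff_zero, hbb', mul_zero,
        add_zero, haa', zero_add] at h1 h2
      exact ⟨(mul_eq_zero.1 h1).resolve_right hab, (mul_eq_zero.1 h2).resolve_right (by rw [hanti]; exact neg_ne_zero.2 hab)⟩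
    have hmem : ∀ i, prow x i ∈ degreeLE k d := fun i => Submodule.sum_mem _ fun c _ => by
      rw [mem_degreeLE]
      exact (degree_C_mul_X_pow_le _ _).trans (by exact_mod_cast Nat.lt_succ_iff.1 c.2)
    have hsep := isSeparable_of_small hp (V := Submodule.span k {prow x a, prow x b})
      (Submodule.span_le.2 (by simp [Set.insert_subset_iff, hmem])) (finrank_span_pair hli)
    rw [isSeparable_span_iff] at hsep
    refine hsep ?_
    rw [prow, prow, ← wr_wedge]
    have : (fun ab : I => x (a, ab.1) * x (b, ab.2) - x (a, ab.2) * x (b, ab.1)) = fun ab => x ab * x (a, b) := by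
      funext ab; exact (hpl ab.1 ab.2).symm
    rw [this]
    have h2 : wr (fun ab : I => x ab * x (a, b)) = C (x (a, b)) * wr x := by
      simp only [wr, Finset.mul_sum, map_mul]
      exact Finset.sum_congr rfl fun ab _ => by ring
    rw [h2, show wr x = 0 from Polynomial.ext fun m => by rw [← hℓ, hl m, coeff_zero], mul_zero]
  have hfin := finite_of_cone Q q hQhom ℓ hℓhom hker (fun m => T.coeff m)
  refine (hfin.image fun x => Submodule.span k (Set.range (prow x))).subset ?_
  intro V hV
  obtain ⟨F, hF, G, hG, hW⟩ := hV.2.1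
  have hle := hV.1.1
  have hfr := hV.1.2.1
  have hspan : V = Submodule.span k {F, G} := by
    haveI : FiniteDimensional k V := Module.finite_of_finrank_eq_succ hfr
    exact (Submodule.eq_of_le_of_finrank_eq (Submodule.span_le.2 (by simp [Set.insert_subset_iff, hF, hG]))
      (by rw [hfr, finrank_span_pair (li_of_wronskian_ne_zero hW)])).symm
  have hdvd : T ∣ wronskian F G :=
    Finset.prod_dvd_of_coprime (fun i _ j _ hij => (pairwise_coprime_X_sub_C hP hij).pow) fun i _ => by
      obtain ⟨s, hs, hs0, hse⟩ := (hV.2.2 i).1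
      exact dvd_wronskian_of_schubert hfr hspan hs hs0 ((le_rootMultiplicity_iff hs0).1 hse)
  obtain ⟨c, hc⟩ := hdvd
  have hc0 : c ≠ 0 := by rintro rfl; exact hW (by rw [hc, mul_zero])
  have hcdeg : c.natDegree = 0 := by
    have h1 := natDegree_wronskian_le (natDegree_le_of_mem hle hF) (natDegree_le_of_mem hle hG) hW
    rw [hc, natDegree_mul hmon.ne_zero hc0] at h1
    omega
  obtain ⟨r, rfl⟩ : ∃ r, c = C r := ⟨_, eq_C_of_natDegree_eq_zero hcdeg⟩
  have hr : r ≠ 0 := fun h => hc0 (by rw [h, map_zero])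
  set B : Fin (d + 1) → k := fun a => r⁻¹ * F.coeff a
  set B' : Fin (d + 1) → k := fun a => G.coeff a
  have hB : ∑ a, C (B a) * X ^ (a : ℕ) = r⁻¹ • F := by
    conv_rhs => rw [← sum_coeff (hle hF)]
    rw [Finset.smul_sum]
    exact Finset.sum_congr rfl fun a _ => by simp only [B]; rw [map_mul, smul_eq_C_mul, mul_assoc]
  have hB' : ∑ a, C (B' a) * X ^ (a : ℕ) = G := sum_coeff (hle hG)
  refine ⟨fun ab => B ab.1 * B' ab.2 - B ab.2 * B' ab.1, ⟨fun i => ?_, fun m => ?_⟩, ?_⟩
  · cases i with
    | inl i => simp [Q]; ring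
    | inr i => simp [Q]
  · rw [hℓ, wr_wedge, hB, hB']
    have : wronskian (r⁻¹ • F) G = T := by
      have h := wronskian_comb F G r⁻¹ 0 0 1
      rw [zero_smul, zero_smul, one_smul, zero_add, add_zero, mul_one, mul_zero, sub_zero] at h
      rw [h, hc, smul_eq_C_mul, mul_left_comm, ← C_mul, inv_mul_cancel₀ hr, C_1, mul_one]
    rw [this]
  · show Submodule.span k (Set.range (prow fun ab => B ab.1 * B' ab.2 - B ab.2 * B' ab.1)) = V
    have hrow : ∀ a, prow (fun ab => B ab.1 * B' ab.2 - B ab.2 * B' ab.1) a = B a • G - (B' a * r⁻¹) • F := by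
      intro a
      rw [mul_smul (B' a) r⁻¹ F, ← hB, ← hB', prow]
      simp only [smul_eq_C_mul, Finset.mul_sum, ← Finset.sum_sub_distrib, map_sub, map_mul]
      exact Finset.sum_congr rfl fun c _ => by ring
    refine le_antisymm (Submodule.span_le.2 ?_) ?_
    · rintro _ ⟨a, rfl⟩
      rw [SetLike.mem_coe, hrow]
      exact V.sub_mem (V.smul_mem _ hG) (V.smul_mem _ hF)
    obtain ⟨a, b, hab⟩ : ∃ a b : Fin (d + 1), B a * B' b - B b * B' a ≠ 0 := by
      by_contra hcon
      push Not at hcon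
      have h0 : wronskian (r⁻¹ • F) G = 0 := by
        rw [← hB, ← hB', ← wr_wedge, show (fun ab : Fin (d + 1) × Fin (d + 1) => B ab.1 * B' ab.2 - B ab.2 * B' ab.1) = 0
          from funext fun ab => hcon ab.1 ab.2]
        simp [wr]
      have h := wronskian_comb F G r⁻¹ 0 0 1
      rw [zero_smul, zero_smul, one_smul, zero_add, add_zero, mul_one, mul_zero, sub_zero] at h
      rw [h, smul_eq_zero] at h0
      exact h0.elim (inv_ne_zero hr) hW
    set S := Submodule.span k (Set.range (prow fun ab => B ab.1 * B' ab.2 - B ab.2 * B' ab.1))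
    have hS : ∀ a, B a • G - (B' a * r⁻¹) • F ∈ S := fun a => hrow a ▸ Submodule.subset_span ⟨a, rfl⟩
    rw [hspan, Submodule.span_le]
    simp only [Set.insert_subset_iff, Set.singleton_subset_iff, SetLike.mem_coe]
    refine ⟨?_, ?_⟩
    · have h1 : B b • (B a • G - (B' a * r⁻¹) • F) - B a • (B b • G - (B' b * r⁻¹) • F) =
          ((B a * B' b - B b * B' a) * r⁻¹) • F := by module
      have h2 : ((B a * B' b - B b * B' a) * r⁻¹) • F ∈ S :=
        h1 ▸ S.sub_mem (S.smul_mem _ (hS a)) (S.smul_mem _ (hS b))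
      exact (Submodule.smul_mem_iff _ (mul_ne_zero hab (inv_ne_zero hr))).1 h2
    · have h1 : B' b • (B a • G - (B' a * r⁻¹) • F) - B' a • (B b • G - (B' b * r⁻¹) • F) =
          (B a * B' b - B b * B' a) • G := by module
      have h2 : (B a * B' b - B b * B' a) • G ∈ S :=
        h1 ▸ S.sub_mem (S.smul_mem _ (hS a)) (S.smul_mem _ (hS b))
      exact (Submodule.smul_mem_iff _ hab).1 h2

end Groth.Agent.RamP1
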