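import Groth.Agent.RamP1.GeneralMain

/-!
# Flipping a pair of ramification indices `e ↦ p - e`
-/

set_option autoImplicit false

universe u

open Polynomial W4c1limliniiii

namespace Groth.Agent.RamP1.Flip

open Groth.Agent.RamP1.GeneralMain (Data)

variable {k : Type u} [Field k] {p d n : ℕ} {e : Fin n → ℕ} {P : Fin n → k}

/-- A pencil with enough ramification is a map with exactly that ramification. -/
theorem mem_ramMaps' {p d n : ℕ} {P : Fin n → k} (hP : Function.Injective P) {e : Fin n → ℕ}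
    (he : Data p d e) {V : Submodule k k[X]} (hV : V ≤ degreeLE k d) (hfr : Module.finrank k V = 2)
    (hsep : IsSeparable V) (hsch : ∀ i, ∃ s ∈ V, s ≠ 0 ∧ e i ≤ rootMultiplicity (P i) s) :
    V ∈ ramMaps d P e := by
  classical
  have hsum := he.2
  choose s hs hs0 hse using hsch
  have hsd : ∀ i, (X - C (P i)) ^ e i ∣ s i := fun i => (le_rootMultiplicity_iff (hs0 i)).1 (hse i)
  have key : ∀ (F G : k[X]), V = Submodule.span k {F, G} →
      wronskian F G ≠ 0 ∧ (wronskian F G).natDegree + 2 ≤ 2 * d ∧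
        ∀ i, (X - C (P i)) ^ (e i - 1) ∣ wronskian F G := by
    intro F G h
    have h0 : wronskian F G ≠ 0 := (isSeparable_span_iff F G).1 (h ▸ hsep)
    exact ⟨h0, natDegree_wronskian_le (natDegree_le_of_mem hV (h ▸ Submodule.subset_span (by simp)))
      (natDegree_le_of_mem hV (h ▸ Submodule.subset_span (by simp))) h0,
      fun i => dvd_wronskian_of_schubert hfr h (hs i) (hs0 i) (hsd i)⟩
  refine ⟨⟨hV, hfr, ?_, ?_⟩, hsep, fun i => ⟨⟨s i, hs i, hs0 i, hse i⟩, ?_⟩⟩
  · by_contra hno
    push Not at hno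
    obtain ⟨F, hF, G, hG, hW⟩ := hsep
    have hd1 : ∀ u ∈ V, u.natDegree ≤ d - 1 := fun u hu => by
      have := natDegree_le_of_mem hV hu
      have := hno u hu
      omega
    have h1 := natDegree_wronskian_le (hd1 F hF) (hd1 G hG) hW
    have hspan : V = Submodule.span k {F, G} := by
      have hle : Submodule.span k {F, G} ≤ V := Submodule.span_le.2 (by simp [Set.insert_subset_iff, hF, hG])
      haveI : FiniteDimensional k V := Module.finite_of_finrank_eq_succ hfr
      exact (Submodule.eq_of_le_of_finrank_eq hle (by rw [hfr, finrank_span_pair (li_of_wronskian_ne_zero hW)])).symm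
    have := sum_le_natDegree hP (key F G hspan).1 (key F G hspan).2.2
    omega
  · intro a
    by_contra hall
    push Not at hall
    obtain ⟨F, hF, hF0⟩ : ∃ u ∈ V, u ≠ 0 := by
      obtain ⟨F, hF, G, hG, hW⟩ := hsep
      exact ⟨F, hF, fun h => hW (by rw [h, wronskian_zero_left])⟩
    obtain ⟨G, hG, -, hFG⟩ := exists_basis hfr hF hF0
    obtain ⟨hW, hdeg, hdvd⟩ := key F G hFG
    by_cases ha : ∃ i, P i = a
    · obtain ⟨i, rfl⟩ := ha
      obtain ⟨t, ht, -, hst⟩ := exists_basis hfr (hs i) (hs0 i)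
      obtain ⟨hW', hdeg', hdvd'⟩ := key _ _ hst
      have := sum_le_natDegree hP hW' (f := fun j => if j = i then e i else e j - 1) fun j => by
        split_ifs with hj
        · subst hj
          exact dvd_wronskian_of_root (hsd j) (dvd_iff_isRoot.2 (hall t ht))
        · exact hdvd' j
      have h2 : ∑ j, (if j = i then e i else e j - 1) = (∑ j, (e j - 1)) + 1 := by
        rw [← Finset.add_sum_erase _ _ (Finset.mem_univ i), ← Finset.add_sum_erase _ (fun j => e j - 1) (Finset.mem_univ i),
          if_pos rfl, Finset.sum_congr rfl fun j hj => if_neg (Finset.ne_of_mem_erase hj)]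
        have := (he.1 i).1
        omega
      omega
    · push Not at ha
      have hP' : Function.Injective (Fin.cons a P : Fin (n + 1) → k) :=
        Fin.cons_injective_iff.2 ⟨fun ⟨i, hi⟩ => ha i hi, hP⟩
      have := sum_le_natDegree hP' hW (f := Fin.cons 1 fun i => e i - 1) fun j => by
        refine Fin.cases ?_ ?_ j
        · have : (X - C a) ^ 1 ∣ F := by rw [pow_one]; exact dvd_iff_isRoot.2 (hall F hF)
          simpa using dvd_wronskian_of_root this (dvd_iff_isRoot.2 (hall G hG))
        · intro i; simpa using hdvd i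
      rw [Fin.sum_univ_succ] at this
      simp only [Fin.cons_zero, Fin.cons_succ] at this
      omega
  · intro u hu hu0
    by_contra hlt
    push Not at hlt
    obtain ⟨t, ht, -, hst⟩ := exists_basis hfr hu hu0
    obtain ⟨hW', hdeg', hdvd'⟩ := key _ _ hst
    have hud : (X - C (P i)) ^ (e i + 1) ∣ u := (le_rootMultiplicity_iff hu0).1 hlt
    have := sum_le_natDegree hP hW' (f := fun j => if j = i then e i else e j - 1) fun j => by
      split_ifs with hj
      · subst hj
        have := dvd_wronskian hud t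
        rwa [Nat.add_sub_cancel] at this
      · exact hdvd' j
    have h2 : ∑ j, (if j = i then e i else e j - 1) = (∑ j, (e j - 1)) + 1 := by
      rw [← Finset.add_sum_erase _ _ (Finset.mem_univ i), ← Finset.add_sum_erase _ (fun j => e j - 1) (Finset.mem_univ i),
        if_pos rfl, Finset.sum_congr rfl fun j hj => if_neg (Finset.ne_of_mem_erase hj)]
      have := (he.1 i).1
      omega
    omega

/-- The transformed data. -/
def flipE (p : ℕ) (e : Fin n → ℕ) (i j : Fin n) : Fin n → ℕ :=
  Function.update (Function.update e i (p - e i)) j (p - e j)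

theorem flipE_left {i j : Fin n} (hij : i ≠ j) : flipE p e i j i = p - e i := by
  simp [flipE, hij]

theorem flipE_right (i j : Fin n) : flipE p e i j j = p - e j := by simp [flipE]

theorem flipE_of_ne {i j l : Fin n} (hi : l ≠ i) (hj : l ≠ j) : flipE p e i j l = e l := by
  simp [flipE, hi, hj]

theorem flipE_flipE {i j : Fin n} (hij : i ≠ j) (hlt : ∀ l, e l < p) : flipE p (flipE p e i j) i j = e := by
  funext l
  rcases eq_or_ne l j with rfl | hj
  · rw [flipE_right, flipE_right]; have := hlt l; omega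
  rcases eq_or_ne l i with rfl | hi
  · rw [flipE_left hij, flipE_left hij]; have := hlt l; omega
  rw [flipE_of_ne hi hj, flipE_of_ne hi hj]

theorem flipE_lt {i j : Fin n} (hij : i ≠ j) (he : Data p d e) (hlt : ∀ l, e l < p) (l : Fin n) :
    flipE p e i j l < p := by
  rcases eq_or_ne l j with rfl | hj
  · rw [flipE_right]; have := hlt l; have := (he.1 l).1; omega
  rcases eq_or_ne l i with rfl | hi
  · rw [flipE_left hij]; have := hlt l; have := (he.1 l).1; omega
  rw [flipE_of_ne hi hj]; exact hlt l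

theorem data_flipE {i j : Fin n} (hij : i ≠ j) (he : Data p d e) (hlt : ∀ l, e l < p) (hd : e i + e j ≤ d + p) :
    Data p (d + p - e i - e j) (flipE p e i j) := by
  classical
  have hb : ∀ l, 1 ≤ flipE p e i j l ∧ flipE p e i j l < p := fun l => by
    refine ⟨?_, flipE_lt hij he hlt l⟩
    rcases eq_or_ne l j with rfl | hj
    · rw [flipE_right]; have := hlt l; omega
    rcases eq_or_ne l i with rfl | hi
    · rw [flipE_left hij]; have := hlt l; omega
    rw [flipE_of_ne hi hj]; exact (he.1 l).1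
  refine ⟨fun l => ⟨(hb l).1, fun hdvd => ?_⟩, ?_⟩
  · have := Nat.le_of_dvd (hb l).1 hdvd
    have := (hb l).2
    omega
  · have hsplit : ∀ f : Fin n → ℕ, ∑ l, f l = f i + (f j + ∑ l ∈ (Finset.univ.erase i).erase j, f l) := fun f => by
      rw [Finset.add_sum_erase _ _ (by simp [hij.symm]), Finset.add_sum_erase _ _ (Finset.mem_univ i)]
    have h2 := he.2
    rw [hsplit] at h2 ⊢
    rw [flipE_left hij, flipE_right, Finset.sum_congr rfl fun l hl => by
      rw [flipE_of_ne (Finset.ne_of_mem_erase (Finset.mem_of_mem_erase hl)) (Finset.ne_of_mem_erase hl)]]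
    have := hlt i
    have := hlt j
    have := (he.1 i).1
    have := (he.1 j).1
    omega

/-- Two pencils exchanged by the flip. -/
def Rel (p : ℕ) (a b : k) (ea eb : ℕ) (V V' : Submodule k k[X]) : Prop :=
  ∃ F G : k[X], V = Submodule.span k {(X - C a) ^ ea * F, (X - C b) ^ eb * G} ∧
    V' = Submodule.span k {(X - C b) ^ (p - eb) * F, (X - C a) ^ (p - ea) * G}

theorem rel_symm {a b : k} {ea eb : ℕ} (ha : ea ≤ p) (hb : eb ≤ p) {V V' : Submodule k k[X]}
    (h : Rel p a b ea eb V V') : Rel p a b (p - ea) (p - eb) V' V := by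
  obtain ⟨F, G, h1, h2⟩ := h
  refine ⟨G, F, by rw [h2, Set.pair_comm], ?_⟩
  rw [h1, Nat.sub_sub_self ha, Nat.sub_sub_self hb, Set.pair_comm]

theorem wronskian_mul_mul (A B F G : k[X]) (hA : derivative A = 0) (hB : derivative B = 0) :
    wronskian (A * F) (B * G) = A * B * wronskian F G := by
  simp only [wronskian, derivative_mul, hA, hB]
  ring

theorem wronskian_mul_left (M F G : k[X]) : wronskian (M * F) (M * G) = M ^ 2 * wronskian F G := by
  simp only [wronskian, derivative_mul]
  ring

theorem derivative_pow_char [CharP k p] (a : k) : derivative ((X - C a) ^ p : k[X]) = 0 := by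
  rw [derivative_pow, (CharP.cast_eq_zero_iff k p p).2 dvd_rfl]
  simp

theorem exists_mult {a : k} {V : Submodule k k[X]} {m : ℕ} (h : HasRamIdx V a m) :
    ∃ s ∈ V, s ≠ 0 ∧ ∃ F : k[X], s = (X - C a) ^ m * F ∧ F.eval a ≠ 0 := by
  obtain ⟨⟨s, hs, hs0, hse⟩, hle⟩ := h
  obtain ⟨F, hF⟩ := (le_rootMultiplicity_iff hs0).1 hse
  refine ⟨s, hs, hs0, F, hF, fun h0 => ?_⟩
  obtain ⟨F', rfl⟩ := dvd_iff_isRoot.2 h0
  have : m + 1 ≤ rootMultiplicity a s :=
    (le_rootMultiplicity_iff hs0).2 ⟨F', by rw [hF, pow_succ]; ring⟩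
  have := hle s hs hs0
  omega

theorem unique_line {a : k} {V : Submodule k k[X]} (hfr : Module.finrank k V = 2)
    (hbpf : ∃ t ∈ V, t.eval a ≠ 0) {s t : k[X]} (hs : s ∈ V) (hs0 : s ≠ 0) (hsa : s.eval a = 0) (ht : t ∈ V)
    (hta : t.eval a = 0) : ∃ c : k, t = c • s := by
  obtain ⟨u, hu, hua⟩ := hbpf
  obtain ⟨w, hw, -, hV⟩ := exists_basis hfr hs hs0
  rw [hV] at hu ht
  obtain ⟨c₁, c₂, rfl⟩ := Submodule.mem_span_pair.1 hu
  obtain ⟨d₁, d₂, rfl⟩ := Submodule.mem_span_pair.1 ht
  have hwa : w.eval a ≠ 0 := fun h0 => hua (by simp [hsa, h0])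
  refine ⟨d₁, ?_⟩
  have : d₂ = 0 := by simpa [hsa, hwa] using hta
  rw [this, zero_smul, add_zero]

theorem flip_pair [CharP k p] (hp : p.Prime) (hP : Function.Injective P) {i j : Fin n} (hij : i ≠ j)
    (he : Data p d e) (hlt : ∀ l, e l < p) (hd : e i + e j ≤ d + p)
    {V : Submodule k k[X]} (hV : V ∈ ramMaps d P e)
    (hsep2 : ∀ s ∈ V, s.IsRoot (P i) ∧ s.IsRoot (P j) → s = 0) :
    ∃! V', V' ∈ ramMaps (d + p - e i - e j) P (flipE p e i j) ∧ Rel p (P i) (P j) (e i) (e j) V V' := by
  classical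
  obtain ⟨⟨hle, hfr, ⟨Fd, hFd, hFdd⟩, hbpf⟩, hsep, hram⟩ := hV
  obtain ⟨s, hs, hs0, F, rfl, hFa⟩ := exists_mult (hram i)
  obtain ⟨t, ht, ht0, G, rfl, hGb⟩ := exists_mult (hram j)
  set a := P i with ha
  set b := P j with hb
  have hab : a ≠ b := hP.ne hij
  have hea : 1 ≤ e i := (he.1 i).1
  have heb : 1 ≤ e j := (he.1 j).1
  have hsa : ((X - C a) ^ e i * F).eval a = 0 := by
    rw [eval_mul, eval_pow, eval_sub, eval_X, eval_C, sub_self, zero_pow (by omega), zero_mul]
  have htb : ((X - C b) ^ e j * G).eval b = 0 := by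
    rw [eval_mul, eval_pow, eval_sub, eval_X, eval_C, sub_self, zero_pow (by omega), zero_mul]
  have hFb : F.eval b ≠ 0 := fun h0 => hs0 (hsep2 _ hs ⟨hsa, show eval b _ = 0 by rw [eval_mul, h0, mul_zero]⟩)
  have hGa : G.eval a ≠ 0 := fun h0 => ht0 (hsep2 _ ht ⟨show eval a _ = 0 by rw [eval_mul, h0, mul_zero], htb⟩)
  have hli : LinearIndependent k ![(X - C a) ^ e i * F, (X - C b) ^ e j * G] := by
    rw [LinearIndependent.pair_iff' hs0]
    intro c hc
    exact ht0 (hsep2 _ ht ⟨show eval a _ = 0 by rw [← hc, eval_smul, hsa, smul_zero], htb⟩)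
  have hVspan : V = Submodule.span k {(X - C a) ^ e i * F, (X - C b) ^ e j * G} := by
    haveI : FiniteDimensional k V := Module.finite_of_finrank_eq_succ hfr
    exact (Submodule.eq_of_le_of_finrank_eq (Submodule.span_le.2 (by simp [Set.insert_subset_iff, hs, ht]))
      (by rw [hfr, finrank_span_pair hli])).symm
  have hW : wronskian ((X - C a) ^ e i * F) ((X - C b) ^ e j * G) ≠ 0 := (isSeparable_span_iff _ _).1 (hVspan ▸ hsep)
  have hi := hlt i
  have hj := hlt j
  set F' := (X - C b) ^ (p - e j) * F with hF'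
  set G' := (X - C a) ^ (p - e i) * G with hG'
  set M := (X - C a) ^ e i * (X - C b) ^ e j with hM
  have hFF : M * F' = (X - C b) ^ p * ((X - C a) ^ e i * F) := by
    rw [hM, hF', show (X - C b) ^ p = (X - C b) ^ e j * (X - C b) ^ (p - e j) by rw [← pow_add, Nat.add_sub_cancel' hj.le]]
    ring
  have hGG : M * G' = (X - C a) ^ p * ((X - C b) ^ e j * G) := by
    rw [hM, hG', show (X - C a) ^ p = (X - C a) ^ e i * (X - C a) ^ (p - e i) by rw [← pow_add, Nat.add_sub_cancel' hi.le]]
    ring
  have hW' : wronskian F' G' ≠ 0 := fun h0 => by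
    have := wronskian_mul_left M F' G'
    rw [h0, mul_zero, hFF, hGG, wronskian_mul_mul _ _ _ _ (derivative_pow_char b) (derivative_pow_char a)] at this
    exact mul_ne_zero (mul_ne_zero (pow_ne_zero _ (X_sub_C_ne_zero b)) (pow_ne_zero _ (X_sub_C_ne_zero a))) hW this
  have hli' := li_of_wronskian_ne_zero hW'
  have hfr' := finrank_span_pair hli'
  have hF0 : F ≠ 0 := fun h0 => hFa (by simp [h0])
  have hG0 : G ≠ 0 := fun h0 => hGb (by simp [h0])
  have hFdeg : F.natDegree + e i ≤ d := by
    have := natDegree_le_of_mem hle hs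
    rw [natDegree_mul (pow_ne_zero _ (X_sub_C_ne_zero a)) hF0, natDegree_pow, natDegree_X_sub_C] at this
    omega
  have hGdeg : G.natDegree + e j ≤ d := by
    have := natDegree_le_of_mem hle ht
    rw [natDegree_mul (pow_ne_zero _ (X_sub_C_ne_zero b)) hG0, natDegree_pow, natDegree_X_sub_C] at this
    omega
  have hdata := data_flipE hij he hlt hd
  have hle' : Submodule.span k {F', G'} ≤ degreeLE k (d + p - e i - e j : ℕ) := by
    refine Submodule.span_le.2 ?_
    simp only [Set.insert_subset_iff, Set.singleton_subset_iff, SetLike.mem_coe, mem_degreeLE,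
      ← natDegree_le_iff_degree_le]
    constructor <;> refine natDegree_mul_le.trans ?_ <;> rw [natDegree_pow, natDegree_X_sub_C] <;> omega
  -- members of high order
  have hmem : ∀ l, ∃ u ∈ Submodule.span k {F', G'}, u ≠ 0 ∧ flipE p e i j l ≤ rootMultiplicity (P l) u := by
    intro l
    have hF'0 : F' ≠ 0 := by simpa using hli'.ne_zero 0
    have hG'0 : G' ≠ 0 := by simpa using hli'.ne_zero 1
    rcases eq_or_ne l j with rfl | hlj
    · refine ⟨F', Submodule.subset_span (by simp), hF'0, ?_⟩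
      rw [flipE_right, le_rootMultiplicity_iff hF'0]
      exact dvd_mul_right _ _
    rcases eq_or_ne l i with rfl | hli''
    · refine ⟨G', Submodule.subset_span (by simp), hG'0, ?_⟩
      rw [flipE_left hij, le_rootMultiplicity_iff hG'0]
      exact dvd_mul_right _ _
    rw [flipE_of_ne hli'' hlj]
    set c := P l
    obtain ⟨u, hu, hu0, hue⟩ := (hram l).1
    rw [hVspan] at hu
    obtain ⟨α, β, hαβ⟩ := Submodule.mem_span_pair.1 hu
    have hcb : c - b ≠ 0 := sub_ne_zero.2 (hP.ne hlj)
    have hca : c - a ≠ 0 := sub_ne_zero.2 (hP.ne hli'')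
    refine ⟨(α / (c - b) ^ p) • F' + (β / (c - a) ^ p) • G',
      Submodule.add_mem _ (Submodule.smul_mem _ _ (Submodule.subset_span (by simp)))
        (Submodule.smul_mem _ _ (Submodule.subset_span (by simp))), ?_, ?_⟩
    · intro h0
      have h1 := (LinearIndependent.pair_iff.1 hli' _ _ h0)
      rw [div_eq_zero_iff, div_eq_zero_iff] at h1
      simp only [pow_ne_zero _ hcb, pow_ne_zero _ hca, or_false] at h1
      exact hu0 (by rw [← hαβ, h1.1, h1.2]; simp)
    · set u' := (α / (c - b) ^ p) • F' + (β / (c - a) ^ p) • G'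
      haveI : Fact p.Prime := ⟨hp⟩
      have key : M * u' = u + (X - C c) ^ p * ((α / (c - b) ^ p) • ((X - C a) ^ e i * F) +
          (β / (c - a) ^ p) • ((X - C b) ^ e j * G)) := by
        have e1 : ∀ z : k, (X - C z : k[X]) ^ p = (X - C c) ^ p + C ((c - z) ^ p) := fun z => by
          rw [map_pow, ← add_pow_char, map_sub]
          ring_nf
        have hu' : M * u' = (α / (c - b) ^ p) • ((X - C b) ^ p * ((X - C a) ^ e i * F)) +
            (β / (c - a) ^ p) • ((X - C a) ^ p * ((X - C b) ^ e j * G)) := by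
          simp only [u', mul_add, mul_smul_comm]
          rw [hFF, hGG]
        rw [hu', e1 a, e1 b, ← hαβ]
        simp only [smul_eq_C_mul]
        have i1 : C (α / (c - b) ^ p) * C ((c - b) ^ p) = C α := by
          rw [← C_mul, div_mul_cancel₀ _ (pow_ne_zero _ hcb)]
        have i2 : C (β / (c - a) ^ p) * C ((c - a) ^ p) = C β := by
          rw [← C_mul, div_mul_cancel₀ _ (pow_ne_zero _ hca)]
        linear_combination ((X - C a) ^ e i * F) * i1 + ((X - C b) ^ e j * G) * i2
      have hdvd : (X - C c) ^ e l ∣ M * u' := by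
        rw [key]
        exact dvd_add ((le_rootMultiplicity_iff hu0).1 hue) ((pow_dvd_pow _ (hlt l).le).mul_right _)
      have hu'0 : u' ≠ 0 := fun h0 => by
        have h1 := (LinearIndependent.pair_iff.1 hli' _ _ h0)
        rw [div_eq_zero_iff, div_eq_zero_iff] at h1
        simp only [pow_ne_zero _ hcb, pow_ne_zero _ hca, or_false] at h1
        exact hu0 (by rw [← hαβ, h1.1, h1.2]; simp)
      rw [le_rootMultiplicity_iff hu'0]
      refine IsCoprime.dvd_of_dvd_mul_left ?_ hdvd
      exact IsCoprime.mul_right ((isCoprime_X_sub_C_of_isUnit_sub (sub_ne_zero.2 (hP.ne hli'')).isUnit).pow)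
        ((isCoprime_X_sub_C_of_isUnit_sub (sub_ne_zero.2 (hP.ne hlj)).isUnit).pow)
  refine ⟨Submodule.span k {F', G'}, ⟨mem_ramMaps' hP hdata hle' hfr' ((isSeparable_span_iff _ _).2 hW') hmem,
    F, G, hVspan, rfl⟩, ?_⟩
  rintro V'' ⟨-, F₁, G₁, h1, rfl⟩
  have m1 : (X - C a) ^ e i * F₁ ∈ V := h1 ▸ Submodule.subset_span (by simp)
  have m2 : (X - C b) ^ e j * G₁ ∈ V := h1 ▸ Submodule.subset_span (by simp)
  obtain ⟨c₁, hc₁⟩ := unique_line hfr (hbpf a) hs hs0 hsa m1 (by
    rw [eval_mul, eval_pow, eval_sub, eval_X, eval_C, sub_self, zero_pow (by omega), zero_mul])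
  obtain ⟨c₂, hc₂⟩ := unique_line hfr (hbpf b) ht ht0 htb m2 (by
    rw [eval_mul, eval_pow, eval_sub, eval_X, eval_C, sub_self, zero_pow (by omega), zero_mul])
  rw [← mul_smul_comm] at hc₁ hc₂
  have eF : F₁ = c₁ • F := mul_left_cancel₀ (pow_ne_zero _ (X_sub_C_ne_zero a)) hc₁
  have eG : G₁ = c₂ • G := mul_left_cancel₀ (pow_ne_zero _ (X_sub_C_ne_zero b)) hc₂
  have hc₁0 : c₁ ≠ 0 := fun h0 => by
    have := hfr
    rw [h1, eF, h0, zero_smul, mul_zero, Submodule.span_insert_zero] at this
    have := finrank_span_le_card (R := k) ({(X - C b) ^ e j * G₁} : Set k[X])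
    simp at this
    omega
  have hc₂0 : c₂ ≠ 0 := fun h0 => by
    have := hfr
    rw [h1, eG, h0, zero_smul, mul_zero, Set.pair_comm, Submodule.span_insert_zero] at this
    have := finrank_span_le_card (R := k) ({(X - C a) ^ e i * F₁} : Set k[X])
    simp at this
    omega
  rw [eF, eG, mul_smul_comm, mul_smul_comm]
  refine le_antisymm (Submodule.span_le.2 ?_) (Submodule.span_le.2 ?_)
  · simp only [Set.insert_subset_iff, Set.singleton_subset_iff, SetLike.mem_coe]
    exact ⟨Submodule.smul_mem _ _ (Submodule.subset_span (by simp [hF'])),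
      Submodule.smul_mem _ _ (Submodule.subset_span (by simp [hG']))⟩
  · simp only [Set.insert_subset_iff, Set.singleton_subset_iff, SetLike.mem_coe]
    exact ⟨(Submodule.smul_mem_iff _ hc₁0).1 (Submodule.subset_span (by simp [hF'])),
      (Submodule.smul_mem_iff _ hc₂0).1 (Submodule.subset_span (by simp [hG']))⟩

end Groth.Agent.RamP1.Flip
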