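import Groth.Agent.RamP1.Rigid
import Groth.Agent.OmegaTrdeg.Basic

/-!
# Finiteness for general configurations
-/

set_option autoImplicit false

universe u

open Polynomial Groth.Agent.RamP1.Rigid W4c1limliniiii

namespace Groth.Agent.RamP1.General

/-- The coordinates of a normalised pencil. -/
abbrev Coord (d n : ℕ) : Type := (Fin (d + 1) ⊕ Fin (d + 1)) ⊕ (Fin n ⊕ Fin n)

variable {k : Type u} [Field k] {d g n : ℕ}

/-- The first polynomial. -/
noncomputable def pF {R : Type u} [CommRing R] (x : Coord d n → R) : R[X] :=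
  ∑ c : Fin (d + 1), C (x (.inl (.inl c))) * X ^ (c : ℕ)

/-- The second polynomial. -/
noncomputable def pG {R : Type u} [CommRing R] (x : Coord d n → R) : R[X] :=
  ∑ c : Fin (d + 1), C (x (.inl (.inr c))) * X ^ (c : ℕ)

/-- The points. -/
def pP {R : Type u} (x : Coord d n → R) (i : Fin n) : R := x (.inr (.inl i))

/-- The parameters of the members. -/
def pA {R : Type u} (x : Coord d n → R) (i : Fin n) : R := x (.inr (.inr i))

/-- The member with a root at the point. -/
noncomputable def pS {R : Type u} [CommRing R] (h : Fin n → Bool) (x : Coord d n → R) (i : Fin n) : R[X] :=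
  (bif h i then pG x else pF x) + C (pA x i) * (bif h i then pF x else pG x)

theorem map_pF {R S : Type u} [CommRing R] [CommRing S] (φ : R →+* S) (x : Coord d n → R) :
    (pF x).map φ = pF (⇑φ ∘ x) := by simp [pF, Polynomial.map_sum]

theorem map_pG {R S : Type u} [CommRing R] [CommRing S] (φ : R →+* S) (x : Coord d n → R) :
    (pG x).map φ = pG (⇑φ ∘ x) := by simp [pG, Polynomial.map_sum]

theorem map_pS {R S : Type u} [CommRing R] [CommRing S] (φ : R →+* S) (h : Fin n → Bool) (x : Coord d n → R)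
    (i : Fin n) : (pS h x i).map φ = pS h (⇑φ ∘ x) i := by
  cases hb : h i <;> simp [pS, hb, map_pF, map_pG, pA]

theorem natDegree_pF_le {R : Type u} [CommRing R] (x : Coord d n → R) : (pF x).natDegree ≤ d :=
  natDegree_sum_le_of_forall_le _ _ fun c _ =>
    (natDegree_C_mul_X_pow_le _ _).trans (Nat.lt_succ_iff.1 c.2)

theorem natDegree_pG_le {R : Type u} [CommRing R] (x : Coord d n → R) : (pG x).natDegree ≤ d :=
  natDegree_sum_le_of_forall_le _ _ fun c _ =>
    (natDegree_C_mul_X_pow_le _ _).trans (Nat.lt_succ_iff.1 c.2)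

theorem wronskian_coeff_ne {L : Type u} [Field L] {e : Fin n → ℕ} {h : Fin n → Bool} {F G : L[X]} {P α : Fin n → L}
    (hg : Good d g e h F G P α) : (wronskian F G).coeff (2 * d - 2) ≠ 0 := by
  have hΦ : ∏ i, (X - C (P i)) ^ (e i - 1) ∣ wronskian F G := by
    refine Finset.prod_dvd_of_coprime (fun i _ j _ hij => (pairwise_coprime_X_sub_C hg.inj hij).pow) fun i _ => ?_
    have h1 := Groth.Agent.RamP1.dvd_wronskian (hg.dvd i) (Hm h F G i)
    have h2 : wronskian (Mm h F G i + C (α i) * Hm h F G i) (Hm h F G i) = wronskian F G ∨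
        wronskian (Mm h F G i + C (α i) * Hm h F G i) (Hm h F G i) = -wronskian F G := by
      rcases hb : h i with _ | _ <;> simp only [Hm, Mm, hb, cond_true, cond_false] <;> [left; right] <;>
        simp only [wronskian, derivative_add, derivative_mul, derivative_C, zero_mul, zero_add] <;> ring
    rcases h2 with h2 | h2 <;> rw [h2] at h1
    · exact h1
    · exact (dvd_neg).1 h1
  have h1 := Groth.Agent.RamP1.natDegree_wronskian_le hg.degF (hg.degG.trans hg.lt.le) hg.wr
  have h2 := natDegree_le_of_dvd hΦ hg.wr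
  rw [natDegree_prod_of_monic _ _ fun i _ => (monic_X_sub_C _).pow _] at h2
  simp only [natDegree_pow, natDegree_X_sub_C, mul_one] at h2
  have := hg.sum
  rw [show 2 * d - 2 = (wronskian F G).natDegree by omega]
  exact leadingCoeff_ne_zero.2 hg.wr

/-- The normalised pencils of a fixed type. -/
def Inc (k : Type u) [Field k] (d g : ℕ) (e : Fin n → ℕ) (h : Fin n → Bool) (rel : Fin n → Fin n → Prop) :
    Set (Coord d n → k) :=
  {x | Good d g e h (pF x) (pG x) (pP x) (pA x) ∧ ∀ i j, rel i j → h i = h j ∧ pA x i = pA x j}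

variable (k) in
/-- The tautological point. -/
noncomputable def xu (d n : ℕ) : Coord d n → MvPolynomial (Coord d n) k := MvPolynomial.X

theorem eval_comp_xu (x : Coord d n → k) : ⇑(MvPolynomial.eval x) ∘ xu k d n = x :=
  funext fun c => MvPolynomial.eval_X c

variable {e : Fin n → ℕ} {h : Fin n → Bool} {rel : Fin n → Fin n → Prop}

set_option maxHeartbeats 1600000 in
/-- The generic point of a component is a normalised pencil. -/
theorem good_of_minimal {x₀ : Coord d n → k} (hx₀ : x₀ ∈ Inc k d g e h rel) (hcast : ∀ i, (e i : k) ≠ 0)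
    (Q : Ideal (MvPolynomial (Coord d n) k)) [Q.IsPrime]
    (hQ : Q ∈ (MvPolynomial.vanishingIdeal k (Inc k d g e h rel)).minimalPrimes)
    {L : Type u} [Field L] [Algebra k L] (φ : MvPolynomial (Coord d n) k →ₐ[k] L) (hφ : RingHom.ker φ.toRingHom = Q) :
    let x := ⇑φ ∘ xu k d n
    Good d g e h (pF x) (pG x) (pP x) (pA x) ∧ ∀ i j, rel i j → h i = h j ∧ pA x i = pA x j := by
  intro x
  set I := MvPolynomial.vanishingIdeal k (Inc k d g e h rel)
  have hmem : ∀ b, φ b = 0 ↔ b ∈ Q := fun b => by rw [← hφ]; exact RingHom.mem_ker.symm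
  have eq0 : ∀ b, (∀ y ∈ Inc k d g e h rel, MvPolynomial.eval y b = 0) → φ b = 0 := fun b hb =>
    (hmem b).2 (hQ.1.2 fun y hy => by rw [← hb y hy, MvPolynomial.aeval_eq_eval])
  have ne0 : ∀ b, (∀ y ∈ Inc k d g e h rel, MvPolynomial.eval y b ≠ 0) → φ b ≠ 0 := by
    intro b hb h0
    obtain ⟨c, hc, hcb⟩ := Ideal.exists_mul_mem_of_mem_minimalPrimes hQ ((hmem b).1 h0)
    refine hc fun y hy => ?_
    have := hcb y hy
    rw [map_mul, MvPolynomial.aeval_eq_eval] at this
    rw [MvPolynomial.aeval_eq_eval]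
    exact (mul_eq_zero.1 this).resolve_left (hb y hy)
  have mF : (pF (xu k d n)).map φ.toRingHom = pF x := map_pF _ _
  have mG : (pG (xu k d n)).map φ.toRingHom = pG x := map_pG _ _
  have eF : ∀ y : Coord d n → k, (pF (xu k d n)).map (MvPolynomial.eval y) = pF y := fun y => by
    rw [map_pF, eval_comp_xu]
  have eG : ∀ y : Coord d n → k, (pG (xu k d n)).map (MvPolynomial.eval y) = pG y := fun y => by
    rw [map_pG, eval_comp_xu]
  have ecoef : ∀ (f : (MvPolynomial (Coord d n) k)[X]) (c : ℕ) (v : k),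
      (∀ y ∈ Inc k d g e h rel, (f.map (MvPolynomial.eval y)).coeff c = v) →
      (f.map φ.toRingHom).coeff c = algebraMap k L v := fun f c v hf => by
    rw [coeff_map]
    have := eq0 (f.coeff c - MvPolynomial.C v) fun y hy => by
      rw [map_sub, MvPolynomial.eval_C, ← coeff_map, hf y hy, sub_self]
    rw [map_sub, sub_eq_zero, ← MvPolynomial.algebraMap_eq, AlgHom.commutes] at this
    exact this
  have hHM : ∀ {R : Type u} [Field R] (y : Coord d n → R) (i : Fin n),
      Mm h (pF y) (pG y) i + C (pA y i) * Hm h (pF y) (pG y) i = pS h y i := fun y i => rfl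
  have mS : ∀ i, (pS h (xu k d n) i).map φ.toRingHom = pS h x i := fun i => map_pS _ _ _ _
  have eS : ∀ (y : Coord d n → k) i, (pS h (xu k d n) i).map (MvPolynomial.eval y) = pS h y i := fun y i => by
    rw [map_pS, eval_comp_xu]
  let lu : Fin n → (MvPolynomial (Coord d n) k)[X] := fun i => X - C (pP (xu k d n) i)
  have mlu : ∀ i, (lu i).map φ.toRingHom = X - C (pP x i) := fun i => by
    simp only [lu, Polynomial.map_sub, map_X, map_C]; rfl
  have elu : ∀ (y : Coord d n → k) i, (lu i).map (MvPolynomial.eval y) = X - C (pP y i) := fun y i => by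
    simp only [lu, Polynomial.map_sub, map_X, map_C]
    rw [show MvPolynomial.eval y (pP (xu k d n) i) = pP y i from MvPolynomial.eval_X _]
  have hmon : ∀ i, (lu i ^ e i).Monic := fun i => (monic_X_sub_C _).pow _
  have hdvd : ∀ i, (X - C (pP x i)) ^ e i ∣ pS h x i := fun i => by
    rw [← mS, ← mlu, ← Polynomial.map_pow, ← modByMonic_eq_zero_iff_dvd ((hmon i).map _), ← map_modByMonic _ (hmon i)]
    refine Polynomial.ext fun c => ?_
    rw [coeff_zero, ← map_zero (algebraMap k L)]
    refine ecoef _ c 0 fun y hy => ?_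
    rw [map_modByMonic _ (hmon i), Polynomial.map_pow, elu, eS, ← hHM,
      (modByMonic_eq_zero_iff_dvd ((monic_X_sub_C _).pow _)).2 (hy.1.dvd i), coeff_zero]
  refine ⟨{ lt := hx₀.1.lt, degF := natDegree_pF_le x, Fd := ?_, Fg := ?_, degG := ?_, Gg := ?_,
            two := hx₀.1.two, cast := ?_, sum := hx₀.1.sum, inj := ?_, dvd := hdvd, ndvd := ?_, hne := ?_, wr := ?_ },
    fun i j hij => ⟨(hx₀.2 i j hij).1, ?_⟩⟩
  · rw [← mF, ← map_one (algebraMap k L)]
    exact ecoef _ _ _ fun y hy => by rw [eF]; exact hy.1.Fd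
  · rw [← mF, ← map_zero (algebraMap k L)]
    exact ecoef _ _ _ fun y hy => by rw [eF]; exact hy.1.Fg
  · refine natDegree_le_iff_coeff_eq_zero.2 fun c hc => ?_
    rw [← mG, ← map_zero (algebraMap k L)]
    exact ecoef _ _ _ fun y hy => by rw [eG]; exact coeff_eq_zero_of_natDegree_lt (hy.1.degG.trans_lt hc)
  · rw [← mG, ← map_one (algebraMap k L)]
    exact ecoef _ _ _ fun y hy => by rw [eG]; exact hy.1.Gg
  · intro i
    rw [← map_natCast (algebraMap k L)]
    exact (_root_.map_ne_zero _).2 (hcast i)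
  · intro i j hij
    by_contra hne'
    refine ne0 (pP (xu k d n) i - pP (xu k d n) j) (fun y hy => ?_) ?_
    · simp only [pP, xu, map_sub, MvPolynomial.eval_X, sub_ne_zero]
      exact fun h' => hne' (hy.1.inj h')
    · rw [map_sub]; exact sub_eq_zero.2 hij
  · intro i hd'
    let qu := pS h (xu k d n) i /ₘ (lu i ^ e i)
    have hq : pS h x i = (X - C (pP x i)) ^ e i * qu.map φ.toRingHom := by
      have h1 := modByMonic_add_div (pS h (xu k d n) i) (lu i ^ e i)
      have h2 := congrArg (Polynomial.map φ.toRingHom) h1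
      rw [Polynomial.map_add, map_modByMonic _ (hmon i), Polynomial.map_mul, Polynomial.map_pow, mlu, mS,
        (modByMonic_eq_zero_iff_dvd ((monic_X_sub_C _).pow _)).2 (hdvd i), zero_add] at h2
      exact h2.symm
    refine ne0 (qu.eval (pP (xu k d n) i)) (fun y hy h0 => hy.1.ndvd i ?_) ?_
    · have hq' : pS h y i = (X - C (pP y i)) ^ e i * qu.map (MvPolynomial.eval y) := by
        have h1 := modByMonic_add_div (pS h (xu k d n) i) (lu i ^ e i)
        have h2 := congrArg (Polynomial.map (MvPolynomial.eval y)) h1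
        rw [Polynomial.map_add, map_modByMonic _ (hmon i), Polynomial.map_mul, Polynomial.map_pow, elu, eS, ← hHM,
          (modByMonic_eq_zero_iff_dvd ((monic_X_sub_C _).pow _)).2 (hy.1.dvd i), zero_add] at h2
        exact h2.symm
      rw [hHM, hq', pow_succ]
      refine mul_dvd_mul_left _ (dvd_iff_isRoot.2 ?_)
      rw [IsRoot, show pP y i = MvPolynomial.eval y (pP (xu k d n) i) by simp [pP, xu],
        eval_map_apply, h0]
    · rw [hHM, hq, pow_succ] at hd'
      have h3 := dvd_iff_isRoot.1 ((mul_dvd_mul_iff_left (pow_ne_zero _ (X_sub_C_ne_zero _))).1 hd')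
      rw [IsRoot, show pP x i = φ.toRingHom (pP (xu k d n) i) from rfl, eval_map_apply] at h3
      exact h3
  · intro i h0
    refine ne0 ((bif h i then pF (xu k d n) else pG (xu k d n)).eval (pP (xu k d n) i)) (fun y hy h1 => hy.1.hne i ?_) ?_
    · rw [show pP y i = MvPolynomial.eval y (pP (xu k d n) i) by simp [pP, xu]]
      cases hb : h i <;> simp only [Rigid.Hm, hb, cond_true, cond_false] at h1 ⊢
      · rw [← eG y, eval_map_apply, h1]
      · rw [← eF y, eval_map_apply, h1]
    · rw [show pP x i = φ.toRingHom (pP (xu k d n) i) from rfl] at h0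
      cases hb : h i <;> simp only [Hm, hb, cond_true, cond_false] at h0 ⊢
      · rw [← mG, eval_map_apply] at h0; exact h0
      · rw [← mF, eval_map_apply] at h0; exact h0
  · intro h0
    refine ne0 ((wronskian (pF (xu k d n)) (pG (xu k d n))).coeff (2 * d - 2)) (fun y hy => ?_) ?_
    · rw [← coeff_map]
      simp only [wronskian, Polynomial.map_sub, Polynomial.map_mul, ← derivative_map, eF, eG]
      exact wronskian_coeff_ne hy.1
    · show φ.toRingHom _ = 0
      rw [← coeff_map]
      simp only [wronskian, Polynomial.map_sub, Polynomial.map_mul, ← derivative_map, mF, mG]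
      rw [← wronskian, h0, coeff_zero]
  · have := eq0 (pA (xu k d n) i - pA (xu k d n) j) fun y hy => by
      simp only [pA, xu, map_sub, MvPolynomial.eval_X, sub_eq_zero]
      exact (hy.2 i j hij).2
    rw [map_sub, sub_eq_zero] at this
    exact this

/-- The dichotomy on a component: the points are constrained, or the pencil is algebraic over them. -/
theorem component_bound {x₀ : Coord d n → k} (hx₀ : x₀ ∈ Inc k d g e h rel) (hcast : ∀ i, (e i : k) ≠ 0)
    (Q : Ideal (MvPolynomial (Coord d n) k)) [Q.IsPrime]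
    (hQ : Q ∈ (MvPolynomial.vanishingIdeal k (Inc k d g e h rel)).minimalPrimes) :
    ∃ Ψ : MvPolynomial (Fin n) k, Ψ ≠ 0 ∧
      ((∀ y : Coord d n → k, Q ≤ RingHom.ker (MvPolynomial.eval y) → MvPolynomial.eval (pP y) Ψ = 0) ∨
        (¬ (∃ i j, i ≠ j ∧ rel i j) ∧ ∀ c : Coord d n, ∃ R : (MvPolynomial (Fin n) k)[X],
          (∀ P : Fin n → k, MvPolynomial.eval P Ψ ≠ 0 → R.map (MvPolynomial.eval P) ≠ 0) ∧
            ∀ y : Coord d n → k, Q ≤ RingHom.ker (MvPolynomial.eval y) →
              (R.map (MvPolynomial.eval (pP y))).eval (y c) = 0)) := by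
  classical
  let B := MvPolynomial (Coord d n) k
  let L := FractionRing (B ⧸ Q)
  let φ : B →ₐ[k] L := (IsScalarTower.toAlgHom k (B ⧸ Q) L).comp (Ideal.Quotient.mkₐ k Q)
  have hφ : RingHom.ker φ.toRingHom = Q := by
    ext b
    rw [RingHom.mem_ker]
    show algebraMap (B ⧸ Q) L (Ideal.Quotient.mk Q b) = 0 ↔ _
    rw [map_eq_zero_iff _ (IsFractionRing.injective (B ⧸ Q) L), Ideal.Quotient.eq_zero_iff_mem]
  haveI : Algebra.EssFiniteType (B ⧸ Q) L := Algebra.EssFiniteType.of_isLocalization L (nonZeroDivisors (B ⧸ Q))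
  haveI : Algebra.EssFiniteType k L := Algebra.EssFiniteType.comp k (B ⧸ Q) L
  let x : Coord d n → L := ⇑φ ∘ xu k d n
  obtain ⟨hgood, hrel⟩ := good_of_minimal hx₀ hcast Q hQ φ hφ
  have hgen : ∀ D : Derivation k L L, (∀ i, D ((pF x).coeff i) = 0) → (∀ i, D ((pG x).coeff i) = 0) →
      (∀ i, D (pP x i) = 0) → (∀ i, D (pA x i) = 0) → D = 0 := by
    intro D h1 h2 h3 h4
    have hX : ∀ c, D (x c) = 0 := by
      rintro ((c | c) | (c | c))
      · have := h1 c
        rwa [pF, finsetSum_coeff, Finset.sum_eq_single c (fun b _ hb => by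
          rw [coeff_C_mul, coeff_X_pow, if_neg (fun hh => hb (Fin.ext hh.symm)), mul_zero]) (fun hh => absurd (Finset.mem_univ c) hh),
          coeff_C_mul, coeff_X_pow, if_pos rfl, mul_one] at this
      · have := h2 c
        rwa [pG, finsetSum_coeff, Finset.sum_eq_single c (fun b _ hb => by
          rw [coeff_C_mul, coeff_X_pow, if_neg (fun hh => hb (Fin.ext hh.symm)), mul_zero]) (fun hh => absurd (Finset.mem_univ c) hh),
          coeff_C_mul, coeff_X_pow, if_pos rfl, mul_one] at this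
      · exact h3 c
      · exact h4 c
    have hB : ∀ b : B, D (φ b) = 0 := fun b => by
      induction b using MvPolynomial.induction_on with
      | C a => rw [← MvPolynomial.algebraMap_eq, AlgHom.commutes, Derivation.map_algebraMap]
      | add p q hp hq => rw [map_add, map_add, hp, hq, add_zero]
      | mul_X p c hp =>
        rw [map_mul, Derivation.leibniz, hp, show φ (MvPolynomial.X c) = x c from rfl, hX, smul_zero, smul_zero, add_zero]
    refine Derivation.ext fun z => ?_
    obtain ⟨a, b, hb, rfl⟩ := IsFractionRing.div_surjective (A := B ⧸ Q) z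
    obtain ⟨a, rfl⟩ := Ideal.Quotient.mk_surjective a
    obtain ⟨b, rfl⟩ := Ideal.Quotient.mk_surjective b
    rw [Derivation.leibniz_div, show algebraMap (B ⧸ Q) L (Ideal.Quotient.mk Q a) = φ a from rfl,
      show algebraMap (B ⧸ Q) L (Ideal.Quotient.mk Q b) = φ b from rfl, hB, hB]
    simp
  obtain ⟨hn, hn'⟩ := Rigid.finrank_omega_le hgood rel hrel hgen
  have htr := OmegaTrdeg.trdeg_le_finrank_omega k L
  have hker : ∀ (y : Coord d n → k), Q ≤ RingHom.ker (MvPolynomial.eval y) → ∀ b : B, φ b = 0 →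
      MvPolynomial.eval y b = 0 := fun y hy b hb =>
    hy (by rw [← hφ]; exact RingHom.mem_ker.2 hb)
  let ι : MvPolynomial (Fin n) k →ₐ[k] B := MvPolynomial.aeval (pP (xu k d n))
  have hφι : φ.comp ι = MvPolynomial.aeval (pP x) := by
    refine MvPolynomial.algHom_ext fun i => ?_
    simp [ι]; rfl
  have heι : ∀ (y : Coord d n → k) (p : MvPolynomial (Fin n) k),
      MvPolynomial.eval y (ι p) = MvPolynomial.eval (pP y) p := fun y p => by
    rw [← MvPolynomial.aeval_eq_eval, ← MvPolynomial.aeval_eq_eval, ← AlgHom.comp_apply]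
    congr 1
    refine MvPolynomial.algHom_ext fun i => ?_
    simp [ι, pP, xu]
  by_cases hind : AlgebraicIndependent k (pP x)
  · have hnr : ¬ ∃ i j, i ≠ j ∧ rel i j := fun hex => by
      have h1 := hind.lift_cardinalMk_le_trdeg
      have h2 : Cardinal.lift.{0} (Algebra.trdeg k L) ≤ ((n - 1 : ℕ) : Cardinal.{u}) := by
        rw [Cardinal.lift_uzero]
        exact htr.trans (Nat.cast_le.2 (by have := hn' hex; omega))
      have h3 := h1.trans h2
      rw [Cardinal.mk_fin, Cardinal.lift_natCast] at h3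
      have h4 : n ≤ n - 1 := Nat.cast_le.1 h3
      have := hn' hex
      omega
    have hbasis : IsTranscendenceBasis k (pP x) := AlgebraicIndependent.isTranscendenceBasis_of_lift_trdeg_le_of_finite hind (by
      rw [Cardinal.mk_fin, Cardinal.lift_natCast, Cardinal.lift_uzero]
      exact htr.trans (Nat.cast_le.2 hn))
    haveI := hbasis.isAlgebraic
    have hR : ∀ c, ∃ R : (MvPolynomial (Fin n) k)[X], R ≠ 0 ∧
        R.eval₂ (MvPolynomial.aeval (pP x)).toRingHom (x c) = 0 := fun c => by
      obtain ⟨R₀, hR₀, hev⟩ := Algebra.IsAlgebraic.isAlgebraic (R := Algebra.adjoin k (Set.range (pP x))) (x c)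
      refine ⟨R₀.map hind.aevalEquiv.symm.toAlgHom.toRingHom,
        (Polynomial.map_ne_zero_iff hind.aevalEquiv.symm.injective).2 hR₀, ?_⟩
      rw [eval₂_map]
      rw [show ((MvPolynomial.aeval (pP x)).toRingHom.comp hind.aevalEquiv.symm.toAlgHom.toRingHom) =
        algebraMap (Algebra.adjoin k (Set.range (pP x))) L from RingHom.ext fun a => by
          conv_rhs => rw [← hind.aevalEquiv.apply_symm_apply a]
          exact (hind.algebraMap_aevalEquiv _).symm]
      exact hev
    choose R hR0 hRev using hR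
    refine ⟨∏ c, (R c).leadingCoeff, Finset.prod_ne_zero_iff.2 fun c _ => leadingCoeff_ne_zero.2 (hR0 c),
      Or.inr ⟨hnr, fun c => ⟨R c, fun P hP h0 => ?_, fun y hy => ?_⟩⟩⟩
    · rw [map_prod] at hP
      refine Finset.prod_ne_zero_iff.1 hP c (Finset.mem_univ c) ?_
      rw [← coeff_natDegree, ← coeff_map, h0, coeff_zero]
    · have h1 : φ ((R c).eval₂ ι.toRingHom (MvPolynomial.X c)) = 0 := by
        show φ.toRingHom _ = 0
        rw [hom_eval₂, show φ.toRingHom.comp ι.toRingHom = (MvPolynomial.aeval (pP x)).toRingHom from by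
          rw [← hφι]; rfl]
        exact hRev c
      have h2 := hker y hy _ h1
      rw [hom_eval₂, MvPolynomial.eval_X] at h2
      rw [eval_map]
      rwa [show (MvPolynomial.eval y).comp ι.toRingHom = MvPolynomial.eval (pP y) from RingHom.ext (heι y)] at h2
  · rw [algebraicIndependent_iff] at hind
    push Not at hind
    obtain ⟨Ψ, hΨ, hΨ0⟩ := hind
    refine ⟨Ψ, hΨ0, Or.inl fun y hy => ?_⟩
    rw [← heι]
    refine hker y hy _ ?_
    rw [← AlgHom.comp_apply, hφι, hΨ]

/-- Finiteness for a general configuration. -/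
theorem exists_general (d g : ℕ) (e : Fin n → ℕ) (h : Fin n → Bool) (rel : Fin n → Fin n → Prop)
    (hcast : ∀ i, (e i : k) ≠ 0) :
    ∃ Φ : MvPolynomial (Fin n) k, Φ ≠ 0 ∧ ∀ P : Fin n → k, MvPolynomial.eval P Φ ≠ 0 →
      {x | x ∈ Inc k d g e h rel ∧ pP x = P}.Finite ∧
        ((∃ i j, i ≠ j ∧ rel i j) → ∀ x ∈ Inc k d g e h rel, pP x ≠ P) := by
  classical
  by_cases hne : (Inc k d g e h rel).Nonempty
  swap
  · rw [Set.not_nonempty_iff_eq_empty] at hne
    exact ⟨1, one_ne_zero, fun P _ => ⟨by simp [hne], fun _ x hx => by simp [hne] at hx⟩⟩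
  obtain ⟨x₀, hx₀⟩ := hne
  let I := MvPolynomial.vanishingIdeal k (Inc k d g e h rel)
  have hfin : I.minimalPrimes.Finite := Ideal.finite_minimalPrimes_of_isNoetherianRing _ I
  have hb : ∀ Q : hfin.toFinset, _ := fun Q =>
    haveI := ((hfin.mem_toFinset).1 Q.2).1.1
    component_bound hx₀ hcast Q.1 ((hfin.mem_toFinset).1 Q.2)
  choose Ψ hΨ0 hΨ using hb
  refine ⟨∏ Q, Ψ Q, Finset.prod_ne_zero_iff.2 fun Q _ => hΨ0 Q, fun P hP => ?_⟩
  rw [map_prod] at hP
  have hP' : ∀ Q, MvPolynomial.eval P (Ψ Q) ≠ 0 := fun Q => Finset.prod_ne_zero_iff.1 hP Q (Finset.mem_univ _)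
  have key : ∀ x ∈ Inc k d g e h rel, pP x = P → ∃ Q : hfin.toFinset, ¬ (∃ i j, i ≠ j ∧ rel i j) ∧
      ∀ c, ∃ R : (MvPolynomial (Fin n) k)[X], (R.map (MvPolynomial.eval P) ≠ 0) ∧
        R = R ∧ (R.map (MvPolynomial.eval P)).eval (x c) = 0 ∧
          R ∈ Set.range (fun Q' : hfin.toFinset × Coord d n =>
            if hh : ¬ (∃ i j, i ≠ j ∧ rel i j) ∧ ∀ c : Coord d n, ∃ R : (MvPolynomial (Fin n) k)[X],
              (∀ P : Fin n → k, MvPolynomial.eval P (Ψ Q'.1) ≠ 0 → R.map (MvPolynomial.eval P) ≠ 0) ∧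
                ∀ y : Coord d n → k, Q'.1.1 ≤ RingHom.ker (MvPolynomial.eval y) →
                  (R.map (MvPolynomial.eval (pP y))).eval (y c) = 0
            then (hh.2 Q'.2).choose else 0) := by
    intro x hx hxP
    have hle : I ≤ RingHom.ker (MvPolynomial.eval x) := fun b hb => by
      rw [RingHom.mem_ker, ← hb x hx, MvPolynomial.aeval_eq_eval]
    haveI : (RingHom.ker (MvPolynomial.eval x)).IsPrime := RingHom.ker_isPrime _
    obtain ⟨Q, hQ, hQle⟩ := Ideal.exists_minimalPrimes_le hle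
    refine ⟨⟨Q, hfin.mem_toFinset.2 hQ⟩, ?_⟩
    rcases hΨ ⟨Q, hfin.mem_toFinset.2 hQ⟩ with h1 | h2
    · exact absurd (hxP ▸ h1 x hQle) (hP' _)
    · refine ⟨h2.1, fun c => ⟨(h2.2 c).choose, (h2.2 c).choose_spec.1 P (hP' _), rfl, ?_,
        ⟨(⟨Q, hfin.mem_toFinset.2 hQ⟩, c), dif_pos h2⟩⟩⟩
      have := (h2.2 c).choose_spec.2 x hQle
      rwa [hxP] at this
  refine ⟨?_, fun hex x hx hxP => (key x hx hxP).choose_spec.1 hex⟩
  let Rs : Set (MvPolynomial (Fin n) k)[X] := Set.range (fun Q' : hfin.toFinset × Coord d n =>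
    if hh : ¬ (∃ i j, i ≠ j ∧ rel i j) ∧ ∀ c : Coord d n, ∃ R : (MvPolynomial (Fin n) k)[X],
      (∀ P : Fin n → k, MvPolynomial.eval P (Ψ Q'.1) ≠ 0 → R.map (MvPolynomial.eval P) ≠ 0) ∧
        ∀ y : Coord d n → k, Q'.1.1 ≤ RingHom.ker (MvPolynomial.eval y) →
          (R.map (MvPolynomial.eval (pP y))).eval (y c) = 0
    then (hh.2 Q'.2).choose else 0)
  have hvals : (⋃ R ∈ Rs, {v : k | R.map (MvPolynomial.eval P) ≠ 0 ∧ (R.map (MvPolynomial.eval P)).eval v = 0}).Finite :=
    (Set.finite_range _).biUnion fun R _ => by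
      by_cases h0 : R.map (MvPolynomial.eval P) = 0
      · simp [h0]
      · exact ((R.map (MvPolynomial.eval P)).finite_setOfPred_isRoot h0).subset fun v hv => hv.2
  refine (Set.Finite.pi fun _ : Coord d n => hvals).subset fun x hx => ?_
  intro c _
  obtain ⟨Q, -, hQ⟩ := key x hx.1 hx.2
  obtain ⟨R, hR, -, hRv, hRs⟩ := hQ c
  exact Set.mem_biUnion hRs ⟨hR, hRv⟩

end Groth.Agent.RamP1.General
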