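import Groth.Agent.RamP1.General
import Groth.Agent.RamP1.Finite

/-!
# Maps with ramification at general points: finiteness and separation of the branch values
-/

set_option autoImplicit false

universe u

open Polynomial Groth.Agent.RamP1.Rigid Groth.Agent.RamP1.General W4c1limliniiii

namespace Groth.Agent.RamP1.GeneralMain

variable {k : Type u} [Field k] {p d n : ℕ} {e : Fin n → ℕ} {P : Fin n → k}

/-- Ramification data allowing unramified points. -/
def Data (p d : ℕ) {n : ℕ} (e : Fin n → ℕ) : Prop :=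
  (∀ i, 1 ≤ e i ∧ ¬ p ∣ e i) ∧ (∑ i, (e i - 1)) + 2 = 2 * d

theorem data_of_admissible (he : Admissible p d e) : Data p d e :=
  ⟨fun i => ⟨(two_le he i).trans' one_le_two, (he.1 i).2.2⟩, sum_sub_one he⟩

/-- A polynomial of degree at most `d` from its coefficients. -/
theorem sum_eq_of_natDegree_le {f : k[X]} (hf : f.natDegree ≤ d) :
    ∑ c : Fin (d + 1), C (f.coeff c) * X ^ (c : ℕ) = f := by
  conv_rhs => rw [as_sum_range_C_mul_X_pow' f (n := d + 1) (by omega)]
  rw [← Fin.sum_univ_eq_sum_range (fun c => C (f.coeff c) * X ^ c)]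

/-- The member attached to a point lies in the span. -/
theorem member_mem (h : Fin n → Bool) (F G : k[X]) (c : k) (i : Fin n) :
    Mm h F G i + C c * Hm h F G i ∈ Submodule.span k {F, G} := by
  rw [← smul_eq_C_mul]
  refine add_mem ?_ (Submodule.smul_mem _ _ ?_) <;>
    cases hb : h i <;> simp only [Mm, Hm, hb, cond_true, cond_false] <;>
    exact Submodule.subset_span (by simp)

/-- A map with the given ramification has a normalised pencil. -/
theorem exists_normal' [CharP k p] (he : Data p d e) (hP : Function.Injective P) {V : Submodule k k[X]}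
    (hV : V ∈ ramMaps d P e) :
    ∃ (g : Fin d) (h : Fin n → Bool) (x : Coord d n → k),
      x ∈ Inc k d g e h (fun _ _ => False) ∧ pP x = P ∧ V = Submodule.span k {pF x, pG x} ∧
        ∀ i, h i = false → pA x i = 0 := by
  classical
  obtain ⟨⟨hle, hfr, ⟨F₁, hF₁, hF₁d⟩, hbpf⟩, hsep, hram⟩ := hV
  have hdpos : 0 < d := by have := he.2; omega
  have hF₁0 : F₁ ≠ 0 := fun h0 => by rw [h0, natDegree_zero] at hF₁d; omega
  have hlc : F₁.leadingCoeff ≠ 0 := leadingCoeff_ne_zero.2 hF₁0
  let F₀ := F₁.leadingCoeff⁻¹ • F₁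
  have hF₀ : F₀ ∈ V := V.smul_mem _ hF₁
  have hF₀d : F₀.coeff d = 1 := by
    rw [coeff_smul, ← hF₁d, coeff_natDegree, smul_eq_mul, inv_mul_cancel₀ hlc]
  have hF₀0 : F₀ ≠ 0 := fun h0 => by rw [h0, coeff_zero] at hF₀d; exact zero_ne_one hF₀d
  obtain ⟨t, ht, hli, hspan⟩ := exists_basis hfr hF₀ hF₀0
  let G₁ := t - t.coeff d • F₀
  have hG₁ : G₁ ∈ V := V.sub_mem ht (V.smul_mem _ hF₀)
  have hG₁0 : G₁ ≠ 0 := fun h0 => by
    rw [LinearIndependent.pair_iff' hF₀0] at hli
    exact hli _ (sub_eq_zero.1 h0).symm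
  have hG₁d : G₁.natDegree < d := by
    have h1 : G₁.natDegree ≤ d := natDegree_le_of_mem hle hG₁
    rcases lt_or_eq_of_le h1 with h2 | h2
    · exact h2
    · exfalso
      refine hG₁0 (leadingCoeff_eq_zero.1 ?_)
      rw [← coeff_natDegree, h2]
      simp [G₁, hF₀d]
  let g : Fin d := ⟨G₁.natDegree, hG₁d⟩
  let G := G₁.leadingCoeff⁻¹ • G₁
  have hlc' : G₁.leadingCoeff ≠ 0 := leadingCoeff_ne_zero.2 hG₁0
  have hG : G ∈ V := V.smul_mem _ hG₁
  have hGdeg : G.natDegree ≤ g := natDegree_smul_le _ _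
  have hGg : G.coeff g = 1 := by
    rw [coeff_smul, smul_eq_mul]
    exact inv_mul_cancel₀ hlc'
  have hG0 : G ≠ 0 := fun h0 => by rw [h0, coeff_zero] at hGg; exact zero_ne_one hGg
  let F := F₀ - F₀.coeff g • G
  have hF : F ∈ V := V.sub_mem hF₀ (V.smul_mem _ hG)
  have hFd : F.coeff d = 1 := by
    simp only [F, coeff_sub, coeff_smul, smul_eq_mul, hF₀d,
      coeff_eq_zero_of_natDegree_lt (hGdeg.trans_lt hG₁d), mul_zero, sub_zero]
  have hFg : F.coeff g = 0 := by
    simp only [F, coeff_sub, coeff_smul, smul_eq_mul, hGg, mul_one, sub_self]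
  have hli' : LinearIndependent k ![F, G] := by
    rw [LinearIndependent.pair_iff]
    intro a b hab
    have h1 := congrArg (fun f => f.coeff d) hab
    simp only [coeff_add, coeff_smul, smul_eq_mul, hFd, coeff_eq_zero_of_natDegree_lt (hGdeg.trans_lt hG₁d),
      mul_zero, add_zero, mul_one, coeff_zero] at h1
    refine ⟨h1, ?_⟩
    rw [h1, zero_smul, zero_add, smul_eq_zero] at hab
    exact hab.resolve_right hG0
  have hVspan : V = Submodule.span k {F, G} := by
    have : FiniteDimensional k V := Module.finite_of_finrank_eq_succ hfr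
    exact (Submodule.eq_of_le_of_finrank_eq (Submodule.span_le.2 (by simp [Set.insert_subset_iff, hF, hG]))
      (by rw [hfr, finrank_span_pair hli'])).symm
  have hnz : ∀ a : k, ¬ (F.eval a = 0 ∧ G.eval a = 0) := fun a h0 => by
    obtain ⟨s, hs, hsa⟩ := hbpf a
    rw [hVspan] at hs
    obtain ⟨c, c', rfl⟩ := Submodule.mem_span_pair.1 hs
    simp [h0.1, h0.2] at hsa
  have hloc : ∀ i, ∃ (b : Bool) (c : k), (b = false → c = 0) ∧ ((bif b then F else G) : k[X]).eval (P i) ≠ 0 ∧
      (X - C (P i)) ^ e i ∣ (bif b then G else F) + C c * (bif b then F else G) := fun i => by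
    obtain ⟨⟨s, hs, hs0, hse⟩, -⟩ := hram i
    have hdvd : (X - C (P i)) ^ e i ∣ s := (le_rootMultiplicity_iff hs0).1 hse
    have hroot : s.eval (P i) = 0 := dvd_iff_isRoot.1
      ((dvd_pow_self _ (by have := (he.1 i).1; omega)).trans hdvd)
    rw [hVspan] at hs
    obtain ⟨a, b, rfl⟩ := Submodule.mem_span_pair.1 hs
    rw [eval_add, eval_smul, eval_smul, smul_eq_mul, smul_eq_mul] at hroot
    by_cases hb : b = 0
    · subst hb
      have ha : a ≠ 0 := fun ha => hs0 (by simp [ha])
      refine ⟨false, 0, fun _ => rfl, fun h0 => hnz (P i) ⟨?_, h0⟩, ?_⟩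
      · simpa [ha] using hroot
      · simpa [zero_smul, smul_eq_C_mul, (isUnit_C.2 (IsUnit.mk0 a ha)).dvd_mul_left] using hdvd
    · refine ⟨true, a / b, (fun hh => nomatch hh), fun h0 => hnz (P i) ⟨h0, ?_⟩, ?_⟩
      · simp only [cond_true] at h0
        simpa [h0, hb] using hroot
      · have h1 : a • F + b • G = C b * (G + C (a / b) * F) := by
          rw [smul_eq_C_mul, smul_eq_C_mul, mul_add, ← mul_assoc, ← C_mul, mul_div_cancel₀ a hb, add_comm]
        rw [h1, (isUnit_C.2 (IsUnit.mk0 b hb)).dvd_mul_left] at hdvd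
        exact hdvd
  choose h α hα hne hdvd using hloc
  let x : Coord d n → k := Sum.elim (Sum.elim (fun c => F.coeff c) (fun c => G.coeff c)) (Sum.elim P α)
  have hxF : pF x = F := sum_eq_of_natDegree_le (natDegree_le_of_mem hle hF)
  have hxG : pG x = G := sum_eq_of_natDegree_le (natDegree_le_of_mem hle hG)
  refine ⟨g, h, x, ⟨?_, fun _ _ hf => hf.elim⟩, rfl, by rw [hxF, hxG]; exact hVspan, hα⟩
  rw [hxF, hxG]
  exact
    { lt := g.2, degF := natDegree_le_of_mem hle hF, Fd := hFd, Fg := hFg, degG := hGdeg, Gg := hGg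
      two := fun i => (he.1 i).1
      cast := fun i h0 => (he.1 i).2 ((CharP.cast_eq_zero_iff k p _).1 h0)
      sum := he.2
      inj := hP
      dvd := hdvd
      ndvd := fun i hd' => by
        have hmem : Mm h F G i + C (α i) * Hm h F G i ∈ V := hVspan ▸ member_mem h F G (α i) i
        have hm0 : Mm h F G i + C (α i) * Hm h F G i ≠ 0 := fun h0 => by
          rw [LinearIndependent.pair_iff] at hli'
          cases hb : h i <;> simp only [Mm, Hm, hb, cond_true, cond_false, ← smul_eq_C_mul] at h0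
          · exact one_ne_zero (hli' 1 (α i) (by rw [one_smul]; exact h0)).1
          · exact one_ne_zero (hli' (α i) 1 (by rw [one_smul, add_comm]; exact h0)).2
        have := (hram i).2 _ hmem hm0
        have h3 : e i + 1 ≤ rootMultiplicity (P i) (Mm h F G i + C (α i) * Hm h F G i) :=
          (le_rootMultiplicity_iff hm0).2 hd'
        omega
      hne := hne
      wr := (isSeparable_span_iff F G).1 (hVspan ▸ hsep) }

/-- Finiteness and separation for a general configuration. -/
theorem finite_and_separate' [CharP k p] (he : Data p d e) :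
    ∃ Φ : MvPolynomial (Fin n) k, Φ ≠ 0 ∧ ∀ P : Fin n → k, MvPolynomial.eval P Φ ≠ 0 →
      (ramMaps d P e).Finite ∧ ∀ V ∈ ramMaps d P e, ∀ i j : Fin n, i ≠ j →
        ∀ s ∈ V, (s.IsRoot (P i) ∧ s.IsRoot (P j)) → s = 0 := by
  classical
  have hcast : ∀ i, (e i : k) ≠ 0 := fun i h0 => (he.1 i).2 ((CharP.cast_eq_zero_iff k p _).1 h0)
  let rels : Option (Fin n × Fin n) → Fin n → Fin n → Prop :=
    fun o i j => o.elim False (fun q => i = q.1 ∧ j = q.2)
  have hex := fun t : Fin d × (Fin n → Bool) × Option (Fin n × Fin n) =>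
    exists_general (k := k) d (t.1 : ℕ) e t.2.1 (rels t.2.2) hcast
  choose Ψ hΨ0 hΨ using hex
  refine ⟨(∏ q ∈ Finset.univ.offDiag, (MvPolynomial.X q.1 - MvPolynomial.X q.2)) * ∏ t, Ψ t,
    mul_ne_zero (Finset.prod_ne_zero_iff.2 fun q hq => sub_ne_zero.2 fun h0 =>
      (Finset.mem_offDiag.1 hq).2.2 (MvPolynomial.X_injective h0))
      (Finset.prod_ne_zero_iff.2 fun t _ => hΨ0 t), fun P hP => ?_⟩
  rw [map_mul, map_prod, map_prod, mul_ne_zero_iff] at hP
  have hinj : Function.Injective P := fun i j hij => by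
    by_contra hne
    exact Finset.prod_ne_zero_iff.1 hP.1 (i, j) (by simp [hne]) (by simp [hij])
  have hΨP := fun t => hΨ t P (Finset.prod_ne_zero_iff.1 hP.2 t (Finset.mem_univ _))
  refine ⟨?_, fun V hV i j hij s hs hroots => ?_⟩
  · refine (Set.finite_iUnion fun g : Fin d => Set.finite_iUnion fun h : Fin n → Bool =>
      ((hΨP (g, h, none)).1.image fun x => Submodule.span k {pF x, pG x})).subset fun V hV => ?_
    obtain ⟨g, h, x, hx, hxP, hVx, -⟩ := exists_normal' he hinj hV
    exact Set.mem_iUnion.2 ⟨g, Set.mem_iUnion.2 ⟨h, x, ⟨hx, hxP⟩, hVx.symm⟩⟩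
  · by_contra hs0
    obtain ⟨g, h, x, ⟨hx, -⟩, hxP, hVx, hα⟩ := exists_normal' he hinj hV
    rw [hVx] at hs
    obtain ⟨a, b, rfl⟩ := Submodule.mem_span_pair.1 hs
    have hm : ∀ l, (a • pF x + b • pG x).eval (P l) = 0 →
        (h l = true → b ≠ 0 ∧ a = b * pA x l) ∧ (h l = false → b = 0) := fun l hl => by
      have hu : (Mm h (pF x) (pG x) l + C (pA x l) * Hm h (pF x) (pG x) l).eval (pP x l) = 0 :=
        dvd_iff_isRoot.1 ((dvd_pow_self _ (by have := (he.1 l).1; omega)).trans (hx.dvd l))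
      have hH := hx.hne l
      rw [hxP] at hu hH
      rw [eval_add, eval_smul, eval_smul, smul_eq_mul, smul_eq_mul] at hl
      refine ⟨fun hb => ?_, fun hb => ?_⟩
      · simp only [Mm, Hm, hb, cond_true, eval_add, eval_mul, eval_C] at hu hH
        have h1 : (a - b * pA x l) * (pF x).eval (P l) = 0 := by linear_combination hl - b * hu
        have h2 : a = b * pA x l := sub_eq_zero.1 ((mul_eq_zero.1 h1).resolve_right hH)
        exact ⟨fun hb0 => hs0 (by rw [h2, hb0]; simp), h2⟩
      · simp only [Mm, Hm, hb, cond_false, eval_add, eval_mul, eval_C, hα l hb, zero_mul, add_zero] at hu hH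
        rw [hu, mul_zero, zero_add] at hl
        exact (mul_eq_zero.1 hl).resolve_right hH
    have hi := hm i hroots.1
    have hj := hm j hroots.2
    have hh : h i = h j := by
      cases hb : h i <;> cases hb' : h j <;> first | rfl | exfalso
      · exact (hj.1 hb').1 (hi.2 hb)
      · exact (hi.1 hb).1 (hj.2 hb')
    have hA : pA x i = pA x j := by
      cases hb : h i
      · rw [hα i hb, hα j (hh ▸ hb)]
      · exact mul_left_cancel₀ (hi.1 hb).1 ((hi.1 hb).2.symm.trans (hj.1 (hh ▸ hb)).2)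
    exact (hΨP (g, h, some (i, j))).2 ⟨i, j, hij, rfl, rfl⟩ x
      ⟨hx, fun i' j' hr => by obtain ⟨rfl, rfl⟩ := hr; exact ⟨hh, hA⟩⟩ hxP

/-- Finiteness and separation for admissible data. -/
theorem finite_and_separate [CharP k p] (he : Admissible p d e) :
    ∃ Φ : MvPolynomial (Fin n) k, Φ ≠ 0 ∧ ∀ P : Fin n → k, MvPolynomial.eval P Φ ≠ 0 →
      (ramMaps d P e).Finite ∧ ∀ V ∈ ramMaps d P e, ∀ i j : Fin n, i ≠ j →
        ∀ s ∈ V, (s.IsRoot (P i) ∧ s.IsRoot (P j)) → s = 0 :=
  finite_and_separate' (data_of_admissible he)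

/-- A map with the given ramification has a normalised pencil. -/
theorem exists_normal [CharP k p] (he : Admissible p d e) (hP : Function.Injective P) {V : Submodule k k[X]}
    (hV : V ∈ ramMaps d P e) :
    ∃ (g : Fin d) (h : Fin n → Bool) (x : Coord d n → k),
      x ∈ Inc k d g e h (fun _ _ => False) ∧ pP x = P ∧ V = Submodule.span k {pF x, pG x} ∧
        ∀ i, h i = false → pA x i = 0 :=
  exists_normal' (data_of_admissible he) hP hV

end Groth.Agent.RamP1.GeneralMain
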