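import Groth.Agent.RamP1.Basic
import Mathlib.Algebra.Polynomial.Expand
import Mathlib.Algebra.CharP.Lemmas
import Mathlib.RingTheory.DiscreteValuationRing.Basic
import Mathlib.RingTheory.LocalRing.ResidueField.Basic
import Mathlib.LinearAlgebra.FreeModule.PID

/-!
# Inseparable limits of separable pencils
-/

set_option autoImplicit false

universe u

open Polynomial W4c1limliniiii

namespace Groth.Agent.RamP1.Insep

variable {R : Type u} [CommRing R] (p : ℕ)

theorem derivative_ex [CharP R p] (a : R[X]) : derivative (expand R p a) = 0 := by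
  rw [derivative_expand, show ((p : ℕ) : R[X]) = 0 from by rw [← map_natCast (C : R →+* R[X]), CharP.cast_eq_zero, map_zero]]
  simp

theorem wronskian_comb [CharP R p] (P Q a b c e : R[X]) :
    wronskian (expand R p a * P + expand R p b * Q) (expand R p c * P + expand R p e * Q) =
      (expand R p (a * e - b * c)) * wronskian P Q := by
  simp only [wronskian, derivative_add, derivative_mul, derivative_ex, zero_mul, zero_add, map_sub, map_mul]
  ring

theorem eq_zero_of_comb [IsDomain R] [Fact p.Prime] [CharP R p] {P Q a b : R[X]} (hW : wronskian P Q ≠ 0)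
    (h : expand R p a * P + expand R p b * Q = 0) : a = 0 ∧ b = 0 := by
  have h' := congrArg derivative h
  simp only [derivative_add, derivative_mul, derivative_ex, zero_mul, zero_add, derivative_zero] at h'
  have hp := (Fact.out : p.Prime).pos
  have ha : expand R p a * wronskian P Q = 0 := by
    rw [wronskian]; linear_combination (derivative Q) * h - Q * h'
  have hb : expand R p b * wronskian P Q = 0 := by
    rw [wronskian]; linear_combination P * h' - (derivative P) * h
  exact ⟨(expand_eq_zero hp).1 ((mul_eq_zero.1 ha).resolve_right hW),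
    (expand_eq_zero hp).1 ((mul_eq_zero.1 hb).resolve_right hW)⟩

theorem map_wronskian {S : Type u} [CommRing S] (f : R →+* S) (P Q : R[X]) :
    (wronskian P Q).map f = wronskian (P.map f) (Q.map f) := by
  simp [wronskian, derivative_map]

theorem map_ex {S : Type u} [CommRing S] (f : R →+* S) (a : R[X]) :
    (expand R p a).map f = expand S p (a.map f) :=
  map_expand

/-- `a(x)` in `x ^ p` is constant modulo `(x - t) ^ e` for `e ≤ p`. -/
theorem dvd_ex_sub [Fact p.Prime] [CharP R p] (a : R[X]) (t : R) {e : ℕ} (he : e ≤ p) :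
    (X - C t) ^ e ∣ expand R p a - C (a.eval (t ^ p)) := by
  haveI : CharP R[X] p := inferInstance
  have h1 : expand R p a = a.comp (X ^ p) := expand_eq_comp_X_pow p
  have h2 : C (a.eval (t ^ p)) = a.comp (C t ^ p) := by
    rw [← map_pow, comp_C]
  have h3 : X ^ p - C t ^ p ∣ a.comp (X ^ p) - a.comp (C t ^ p) := by
    simp only [comp, eval₂_eq_eval_map]
    exact sub_dvd_eval_sub _ _ _
  rw [h1, h2]
  refine (pow_dvd_pow _ he).trans ?_
  rwa [sub_pow_char]

variable (k : Type u) [Field k] [Fact p.Prime] [CharP k p]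

/-- Splitting off the transcendental part of a degenerate pair. -/
theorem exists_reduce {P Q : k[X]} (h : wronskian P Q = 0) :
    ∃ u v f g : k[X], u * f + v * g = 1 ∧ expand k p f * Q = expand k p g * P := by
  classical
  by_cases hP : P = 0
  · exact ⟨0, 1, 0, 1, by simp, by simp [hP]⟩
  obtain ⟨d, F, G, hFG, hPe, hQe⟩ : ∃ d F G : k[X], IsCoprime F G ∧ P = d * F ∧ Q = d * G := by
    obtain ⟨d, hd⟩ := (IsPrincipalIdealRing.principal (Ideal.span ({P, Q} : Set k[X]))).principal
    rw [Ideal.submodule_span_eq] at hd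
    obtain ⟨F, hF⟩ := Ideal.mem_span_singleton.1 (hd ▸ Ideal.subset_span (by simp) : P ∈ Ideal.span {d})
    obtain ⟨G, hG⟩ := Ideal.mem_span_singleton.1 (hd ▸ Ideal.subset_span (by simp) : Q ∈ Ideal.span {d})
    obtain ⟨x, y, hxy⟩ := Ideal.mem_span_pair.1 (hd.symm ▸ Ideal.mem_span_singleton_self d : d ∈ Ideal.span {P, Q})
    have hd0 : d ≠ 0 := fun h0 => hP (by rw [hF, h0, zero_mul])
    refine ⟨d, F, G, ⟨x, y, mul_left_cancel₀ hd0 ?_⟩, hF, hG⟩
    rw [hF, hG] at hxy
    linear_combination hxy
  have hw : wronskian F G = 0 := by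
    have h' : d ^ 2 * wronskian F G = 0 := by
      rw [← h, hPe, hQe]
      simp only [wronskian, derivative_mul]
      ring
    exact (mul_eq_zero.1 h').resolve_left (pow_ne_zero 2 fun h0 => hP (by rw [hPe, h0, zero_mul]))
  have hFd : derivative F = 0 := by
    have hdvd : F ∣ derivative F := by
      refine hFG.dvd_of_dvd_mul_right (z := G) ⟨derivative G, ?_⟩
      rw [wronskian] at hw
      linear_combination -hw
    exact (dvd_derivative_iff).1 hdvd
  have hGd : derivative G = 0 := by
    have hdvd : G ∣ derivative G := by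
      refine hFG.symm.dvd_of_dvd_mul_right (z := F) ⟨derivative F, ?_⟩
      rw [wronskian] at hw
      linear_combination hw
    exact (dvd_derivative_iff).1 hdvd
  have hp := (Fact.out : p.Prime).ne_zero
  obtain ⟨f, hf⟩ : ∃ f, expand k p f = F := ⟨contract p F, expand_contract p hFd hp⟩
  obtain ⟨g, hg⟩ : ∃ g, expand k p g = G := ⟨contract p G, expand_contract p hGd hp⟩
  have hfg : IsCoprime f g := by
    rw [← EuclideanDomain.gcd_isUnit_iff]
    have hF' := map_dvd (expand k p) (EuclideanDomain.gcd_dvd_left f g)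
    have hG' := map_dvd (expand k p) (EuclideanDomain.gcd_dvd_right f g)
    rw [hf] at hF'; rw [hg] at hG'
    exact (isLocalHom_expand k (Fact.out : p.Prime).pos).map_nonunit _ (hFG.isUnit_of_dvd' hF' hG')
  obtain ⟨u, v, huv⟩ := hfg
  refine ⟨u, v, f, g, huv, ?_⟩
  rw [hf, hg]
  rw [hPe, hQe]
  ring

section Lim

variable {p} {A : Type u} [CommRing A] [IsDomain A] [IsDiscreteValuationRing A] [CharP A p]
  {K : Type u} [Field K] [Algebra A K] [IsFractionRing A K]

/-- `V` can be written in `P, Q` with coefficients in `A[x ^ p]`. -/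
def InMod (p : ℕ) (P Q s : A[X]) : Prop :=
  ∃ a b : A[X], s = expand A p a * P + expand A p b * Q

/-- Some combination with constant coefficients vanishes to order `e` at `t`. -/
def Vanishes (K : Type u) [Field K] [Algebra A K] (P Q : A[X]) (t : A) (e : ℕ) : Prop :=
  ∃ l m : K, (l ≠ 0 ∨ m ≠ 0) ∧
    (X - C (algebraMap A K t)) ^ e ∣ C l * P.map (algebraMap A K) + C m * Q.map (algebraMap A K)

theorem vanishes_step [CharP K p] {P Q P' Q' : A[X]} (a b c e' : A[X]) (ϖ : A) (hϖ : ϖ ≠ 0) {t : A} {e : ℕ} (he : e ≤ p)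
    (hP : P = expand A p a * P' + expand A p b * (C ϖ * Q')) (hQ : Q = expand A p c * P' + expand A p e' * (C ϖ * Q'))
    (hdet : a * e' - b * c = 1) (h : Vanishes K P Q t e) : Vanishes K P' Q' t e := by
  obtain ⟨l, m, hlm, hdvd⟩ := h
  let φ := algebraMap A K
  let ev : A[X] → K := fun s => (s.map φ).eval (φ t ^ p)
  refine ⟨l * ev a + m * ev c, φ ϖ * (l * ev b + m * ev e'), ?_, ?_⟩
  · by_contra hc
    rw [not_or, not_not, not_not] at hc
    have h2 : l * ev b + m * ev e' = 0 :=
      (mul_eq_zero.1 hc.2).resolve_left ((map_ne_zero_iff _ (IsFractionRing.injective A K)).2 hϖ)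
    have hd : ev a * ev e' - ev b * ev c = 1 := by
      have := congrArg ev hdet
      simpa [ev, φ] using this
    have hl : l = 0 := by linear_combination (ev e') * hc.1 - (ev c) * h2 - l * hd
    have hm : m = 0 := by linear_combination (ev a) * h2 - (ev b) * hc.1 - m * hd
    rcases hlm with h' | h'
    · exact h' hl
    · exact h' hm
  · have key : ∀ s : A[X], (X - C (φ t)) ^ e ∣ (expand A p s).map φ - C (ev s) := fun s => by
      rw [map_expand]
      exact dvd_ex_sub p (s.map φ) (φ t) he
    have := dvd_sub hdvd (dvd_add (dvd_add ((key a).mul_left (C l * P'.map φ)) ((key c).mul_left (C m * P'.map φ)))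
      (dvd_add ((key b).mul_left (C l * (C (φ ϖ) * Q'.map φ))) ((key e').mul_left (C m * (C (φ ϖ) * Q'.map φ)))))
    convert this using 1
    rw [hP, hQ]
    simp only [Polynomial.map_add, Polynomial.map_mul, map_C, map_add, map_mul, φ]
    ring

theorem inMod_step {P Q P' Q' s : A[X]} (a b c e : A[X]) (ϖ : A) (hP : P = expand A p a * P' + expand A p b * (C ϖ * Q'))
    (hQ : Q = expand A p c * P' + expand A p e * (C ϖ * Q')) (h : InMod p P Q s) : InMod p P' Q' s := by
  obtain ⟨x, y, rfl⟩ := h
  refine ⟨x * a + y * c, (x * b + y * e) * C ϖ, ?_⟩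
  rw [hP, hQ]
  simp only [map_add, map_mul, expand_C]
  ring

local notation "res" => IsLocalRing.residue A

theorem dvd_of_map_res {ϖ : A} (hϖ : Irreducible ϖ) {Q : A[X]} (h : Q.map res = 0) : C ϖ ∣ Q := by
  rw [C_dvd_iff_dvd_coeff]
  intro i
  rw [← Ideal.mem_span_singleton, ← hϖ.maximalIdeal_eq, ← IsLocalRing.residue_eq_zero_iff, ← coeff_map, h, coeff_zero]

/-- The iteration. -/
theorem exists_limit [CharP K p] [CharP (IsLocalRing.ResidueField A) p] (σ : IsLocalRing.ResidueField A →+* A)
    (hσ : ∀ x, res (σ x) = x) {ϖ : A} (hϖ : Irreducible ϖ) {n : ℕ} (t : Fin n → A) (e : Fin n → ℕ)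
    (he : ∀ i, e i ≤ p) (Φ : A[X]) (hΦ : Φ.Monic) (F G : A[X]) :
    ∀ (j : ℕ) (P Q : A[X]) (u : Aˣ), wronskian P Q = C ((u : A) * ϖ ^ j) * Φ → (∀ i, Vanishes K P Q (t i) (e i)) →
      InMod p P Q F → InMod p P Q G →
      ∃ (P' Q' : A[X]) (u' : Aˣ), wronskian P' Q' = C (u' : A) * Φ ∧ (∀ i, Vanishes K P' Q' (t i) (e i)) ∧
        InMod p P' Q' F ∧ InMod p P' Q' G := by
  intro j
  induction j with
  | zero => exact fun P Q u hW hV hF hG => ⟨P, Q, u, by rwa [pow_zero, mul_one] at hW, hV, hF, hG⟩
  | succ j ih =>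
    intro P Q u hW hV hF hG
    have h0 : wronskian (P.map res) (Q.map res) = 0 := by
      rw [← map_wronskian, hW, Polynomial.map_mul, map_C, map_mul, map_pow,
        (IsLocalRing.residue_eq_zero_iff ϖ).2 (by rw [hϖ.maximalIdeal_eq]; exact Ideal.mem_span_singleton_self ϖ),
        zero_pow (Nat.succ_ne_zero j), mul_zero, map_zero, zero_mul]
    obtain ⟨u₀, v₀, f₀, g₀, huv, hfg⟩ := exists_reduce p (IsLocalRing.ResidueField A) h0
    let L : (IsLocalRing.ResidueField A)[X] → A[X] := fun s => s.map σ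
    have hdet : L u₀ * L f₀ + L v₀ * L g₀ = 1 := by
      simp only [L, ← Polynomial.map_mul, ← Polynomial.map_add, huv, Polynomial.map_one]
    have hL : ∀ s, (L s).map res = s := fun s => by
      simp only [L, map_map, show (IsLocalRing.residue A).comp σ = RingHom.id _ from RingHom.ext hσ, map_id]
    obtain ⟨Q', hQ'⟩ : C ϖ ∣ expand A p (L f₀) * Q - expand A p (L g₀) * P := by
      refine dvd_of_map_res hϖ ?_
      rw [Polynomial.map_sub, Polynomial.map_mul, Polynomial.map_mul, map_expand, map_expand, hL, hL, hfg, sub_self]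
    obtain ⟨P', hP'⟩ : ∃ P', P' = expand A p (L u₀) * P + expand A p (L v₀) * Q := ⟨_, rfl⟩
    have hdetE : expand A p (L u₀) * expand A p (L f₀) + expand A p (L v₀) * expand A p (L g₀) = 1 := by
      rw [← map_mul, ← map_mul, ← map_add, hdet, map_one]
    have hP : P = expand A p (L f₀) * P' + expand A p (-L v₀) * (C ϖ * Q') := by
      rw [map_neg, ← hQ', hP']; linear_combination -P * hdetE
    have hQ : Q = expand A p (L g₀) * P' + expand A p (L u₀) * (C ϖ * Q') := by
      rw [← hQ', hP']; linear_combination -Q * hdetE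
    have hdet' : L f₀ * L u₀ - -L v₀ * L g₀ = 1 := by linear_combination hdet
    have hWW : wronskian P' Q' = C ((u : A) * ϖ ^ j) * Φ := by
      have h1 : wronskian P Q = wronskian P' (C ϖ * Q') := by
        conv_lhs => rw [hP, hQ]
        rw [wronskian_comb, hdet', map_one, one_mul]
      have h2 : wronskian P' (C ϖ * Q') = C ϖ * wronskian P' Q' := by
        simp only [wronskian, derivative_C_mul]; ring
      refine mul_left_cancel₀ (C_ne_zero.2 hϖ.ne_zero) ?_
      rw [← h2, ← h1, hW, ← mul_assoc (C ϖ), ← map_mul, pow_succ]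
      congr 2
      ring
    exact ih P' Q' u hWW (fun i => vanishes_step _ _ _ _ ϖ hϖ.ne_zero (he i) hP hQ hdet' (hV i))
      (inMod_step _ _ _ _ ϖ hP hQ hF) (inMod_step _ _ _ _ ϖ hP hQ hG)

theorem vanishes_residue {ϖ : A} (hϖ : Irreducible ϖ) {P Q : A[X]} {t : A} {e : ℕ} (h : Vanishes K P Q t e) :
    ∃ l m : IsLocalRing.ResidueField A, (l ≠ 0 ∨ m ≠ 0) ∧
      (X - C (res t)) ^ e ∣ C l * P.map res + C m * Q.map res := by
  classical
  obtain ⟨l, m, hlm, hdvd⟩ := h
  have hinj := IsFractionRing.injective A K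
  obtain ⟨⟨s, hs⟩, hsm⟩ := IsLocalization.exist_integer_multiples_of_finset (nonZeroDivisors A)
    (S := K) ({l, m} : Finset K)
  obtain ⟨l₀, hl₀⟩ := hsm l (by simp)
  obtain ⟨m₀, hm₀⟩ := hsm m (by simp)
  simp only [Algebra.smul_def] at hl₀ hm₀
  have hs0 : algebraMap A K s ≠ 0 := (map_ne_zero_iff _ hinj).2 (nonZeroDivisors.ne_zero hs)
  have hlm₀ : l₀ ≠ 0 ∨ m₀ ≠ 0 := by
    rcases hlm with h | h
    · left; rintro rfl; rw [map_zero] at hl₀; exact h ((mul_eq_zero.1 hl₀.symm).resolve_left hs0)
    · right; rintro rfl; rw [map_zero] at hm₀; exact h ((mul_eq_zero.1 hm₀.symm).resolve_left hs0)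
  have hmon : ((X - C t) ^ e).Monic := (monic_X_sub_C t).pow e
  have hd : (X - C t) ^ e ∣ C l₀ * P + C m₀ * Q := by
    rw [← Polynomial.map_dvd_map _ hinj hmon]
    simp only [Polynomial.map_pow, Polynomial.map_sub, map_X, map_C, Polynomial.map_add, Polynomial.map_mul, hl₀, hm₀]
    rw [map_mul, map_mul, mul_assoc, mul_assoc, ← mul_add]
    exact hdvd.mul_left _
  obtain ⟨g, hg⟩ : ∃ g : A, Ideal.span {l₀, m₀} = Ideal.span {g} :=
    (IsPrincipalIdealRing.principal _).principal.imp fun g hg => hg.trans (Ideal.submodule_span_eq ..)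
  have hgl : g ∣ l₀ := Ideal.mem_span_singleton.1 (hg ▸ Ideal.subset_span (by simp))
  have hgm : g ∣ m₀ := Ideal.mem_span_singleton.1 (hg ▸ Ideal.subset_span (by simp))
  obtain ⟨l₁, hl₁⟩ := hgl
  obtain ⟨m₁, hm₁⟩ := hgm
  have hg0 : g ≠ 0 := by rintro rfl; simp_all
  refine ⟨res l₁, res m₁, ?_, ?_⟩
  · by_contra hc
    rw [not_or, not_not, not_not, IsLocalRing.residue_eq_zero_iff, IsLocalRing.residue_eq_zero_iff] at hc
    obtain ⟨a, b, hab⟩ := Ideal.mem_span_pair.1 (hg ▸ Ideal.mem_span_singleton_self g : g ∈ Ideal.span {l₀, m₀})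
    have h1 : (1 : A) ∈ IsLocalRing.maximalIdeal A := by
      have : a * l₁ + b * m₁ = 1 := by
        refine mul_left_cancel₀ hg0 ?_
        rw [hl₁, hm₁] at hab
        linear_combination hab
      rw [← this]
      exact Ideal.add_mem _ (Ideal.mul_mem_left _ _ hc.1) (Ideal.mul_mem_left _ _ hc.2)
    exact (IsLocalRing.maximalIdeal.isMaximal A).ne_top ((Ideal.eq_top_iff_one _).2 h1)
  · have h2 : (X - C t) ^ e ∣ C l₁ * P + C m₁ * Q := by
      rw [← Polynomial.map_dvd_map _ hinj hmon]
      have h3 := Polynomial.map_dvd (algebraMap A K) hd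
      rw [hl₁, hm₁, map_mul, map_mul, mul_assoc, mul_assoc, ← mul_add, Polynomial.map_mul, map_C] at h3
      exact (IsUnit.dvd_mul_left (isUnit_C.2 (isUnit_iff_ne_zero.2 ((map_ne_zero_iff _ hinj).2 hg0)))).1 h3
    simpa using Polynomial.map_dvd res h2

/-- Saturation of the module of a nondegenerate pair. -/
theorem inMod_of_mul [CharP (IsLocalRing.ResidueField A) p] {ϖ : A} (hϖ : Irreducible ϖ) {P Q : A[X]}
    (hW : wronskian (P.map res) (Q.map res) ≠ 0) :
    ∀ (j : ℕ) (s : A[X]), InMod p P Q (C ϖ ^ j * s) → InMod p P Q s := by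
  intro j
  induction j with
  | zero => intro s h; simpa using h
  | succ j ih =>
    intro s h
    rw [pow_succ, mul_assoc] at h
    obtain ⟨a, b, hab⟩ := ih _ h
    have h0 := congrArg (Polynomial.map res) hab
    rw [Polynomial.map_mul, map_C, (IsLocalRing.residue_eq_zero_iff ϖ).2
      (by rw [hϖ.maximalIdeal_eq]; exact Ideal.mem_span_singleton_self ϖ), map_zero, zero_mul, Polynomial.map_add,
      Polynomial.map_mul, Polynomial.map_mul, map_expand, map_expand] at h0
    obtain ⟨ha, hb⟩ := eq_zero_of_comb p hW h0.symm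
    obtain ⟨a', rfl⟩ := dvd_of_map_res hϖ ha
    obtain ⟨b', rfl⟩ := dvd_of_map_res hϖ hb
    refine ⟨a', b', mul_left_cancel₀ (C_ne_zero.2 hϖ.ne_zero) ?_⟩
    rw [hab, map_mul, map_mul, expand_C]
    ring

/-- Many independent members over `K` give many independent reductions. -/
theorem exists_independent_residues [CharP (IsLocalRing.ResidueField A) p] {ϖ : A} (hϖ : Irreducible ϖ)
    {P Q : A[X]} (hW : wronskian (P.map res) (Q.map res) ≠ 0) {j q : ℕ} (w : Fin q → A[X])
    (hw : ∀ i, InMod p P Q (w i)) (hdeg : ∀ i, (w i).natDegree ≤ j)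
    (hli : LinearIndependent K fun i => (w i).map (algebraMap A K)) :
    ∃ r : Fin q → A[X], (∀ i, InMod p P Q (r i)) ∧ (∀ i, (r i).natDegree ≤ j) ∧
      LinearIndependent (IsLocalRing.ResidueField A) fun i => (r i).map res := by
  classical
  let S : Submodule K K[X] := Submodule.span K (Set.range fun i => (w i).map (algebraMap A K))
  let U : Submodule A A[X] := (S.restrictScalars A).comap (mapAlg A K).toLinearMap ⊓ degreeLE A j
  have hmemU : ∀ s : A[X], s ∈ U ↔ s.map (algebraMap A K) ∈ S ∧ s.natDegree ≤ j := fun s => by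
    rw [Submodule.mem_inf, mem_degreeLE, ← natDegree_le_iff_degree_le, Submodule.mem_comap]
    simp [mapAlg_eq_map]
  haveI : Module.Finite A U := by
    haveI : IsNoetherian A (degreeLE A (j : WithBot ℕ)) := by
      haveI : Module.Finite A (degreeLE A (j : WithBot ℕ)) := by
        refine ⟨(Submodule.fg_top _).2 ?_⟩
        rw [degreeLE_eq_span_X_pow]
        exact ⟨_, rfl⟩
      exact isNoetherian_of_isNoetherianRing_of_finite A _
    exact Module.Finite.of_injective (Submodule.inclusion (inf_le_right : U ≤ degreeLE A j))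
      (Submodule.inclusion_injective _)
  have hinM : ∀ s ∈ U, InMod p P Q s := by
    intro s hs
    obtain ⟨c, hc⟩ := (Submodule.mem_span_range_iff_exists_fun K).1 ((hmemU s).1 hs).1
    obtain ⟨⟨d, hd⟩, hdm⟩ := IsLocalization.exist_integer_multiples (nonZeroDivisors A) Finset.univ c
    choose c₀ hc₀ using fun i => hdm i (Finset.mem_univ i)
    have h1 : C d * s = ∑ i, C (c₀ i) * w i := by
      refine map_injective (algebraMap A K) (IsFractionRing.injective A K) ?_
      rw [Polynomial.map_mul, map_C, ← hc, Polynomial.map_sum, Finset.mul_sum]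
      refine Finset.sum_congr rfl fun i _ => ?_
      rw [Polynomial.map_mul, map_C, hc₀, smul_eq_C_mul, ← mul_assoc, ← map_mul, Algebra.smul_def]
    choose a b hab using hw
    obtain ⟨i, u, hiu⟩ := IsDiscreteValuationRing.associated_pow_irreducible (nonZeroDivisors.ne_zero hd) hϖ
    refine inMod_of_mul hϖ hW i s ⟨∑ l, C ((u : A) * c₀ l) * a l, ∑ l, C ((u : A) * c₀ l) * b l, ?_⟩
    rw [← map_pow, ← hiu, mul_comm d (u : A), map_mul, mul_assoc, h1, map_sum, map_sum, Finset.sum_mul, Finset.sum_mul,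
      ← Finset.sum_add_distrib, Finset.mul_sum]
    refine Finset.sum_congr rfl fun l _ => ?_
    rw [hab l]
    simp only [map_mul, expand_C]
    ring
  obtain ⟨N, bU⟩ : Σ N, Module.Basis (Fin N) A U :=
    ⟨_, Module.Free.chooseBasis A U |>.reindex (Fintype.equivFin _)⟩
  have hred : LinearIndependent (IsLocalRing.ResidueField A) fun i => ((bU i : U) : A[X]).map res := by
    rw [Fintype.linearIndependent_iff]
    intro c hc i
    choose c₀ hc₀ using fun l => IsLocalRing.residue_surjective (c l)
    let s : U := ∑ l, c₀ l • bU l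
    have hs : (s : A[X]).map res = 0 := by
      simpa [s, Submodule.coe_sum, Polynomial.map_sum, smul_eq_C_mul, hc₀] using hc
    obtain ⟨s', hs'⟩ := dvd_of_map_res hϖ hs
    have hs'U : s' ∈ U := by
      obtain ⟨h1, h2⟩ := (hmemU _).1 s.2
      rw [hs', Polynomial.map_mul, map_C, ← smul_eq_C_mul] at h1
      rw [hs', natDegree_C_mul hϖ.ne_zero] at h2
      exact (hmemU _).2 ⟨(Submodule.smul_mem_iff _
        ((map_ne_zero_iff _ (IsFractionRing.injective A K)).2 hϖ.ne_zero)).1 h1, h2⟩
    have hs'' : s = ϖ • (⟨s', hs'U⟩ : U) := Subtype.ext (by rw [hs']; simp [smul_eq_C_mul])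
    have := congrArg (fun z => bU.repr z i) hs''
    simp only [s, map_smul, Finsupp.smul_apply, smul_eq_mul, map_sum, Finsupp.coe_finset_sum, Finset.sum_apply,
      Module.Basis.repr_self, Finsupp.single_apply, mul_ite, mul_one, mul_zero, Finset.sum_ite_eq', Finset.mem_univ,
      if_true] at this
    rw [← hc₀ i, this, map_mul, (IsLocalRing.residue_eq_zero_iff ϖ).2
      (by rw [hϖ.maximalIdeal_eq]; exact Ideal.mem_span_singleton_self ϖ), zero_mul]
  have hqN : q ≤ N := by
    have hsub : Set.range (fun i => (w i).map (algebraMap A K)) ⊆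
        Submodule.span K (Set.range fun l => ((bU l : U) : A[X]).map (algebraMap A K)) := by
      rintro _ ⟨i, rfl⟩
      have hwU : w i ∈ U := (hmemU _).2 ⟨Submodule.subset_span ⟨i, rfl⟩, hdeg i⟩
      have h1 : w i = ∑ l, bU.repr ⟨w i, hwU⟩ l • ((bU l : U) : A[X]) := by
        conv_lhs => rw [show w i = ((⟨w i, hwU⟩ : U) : A[X]) from rfl, ← bU.sum_repr ⟨w i, hwU⟩]
        rw [Submodule.coe_sum]
        rfl
      show (w i).map _ ∈ _
      rw [h1, Polynomial.map_sum]
      refine Submodule.sum_mem _ fun l _ => ?_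
      rw [smul_eq_C_mul, Polynomial.map_mul, map_C, ← smul_eq_C_mul]
      exact Submodule.smul_mem _ _ (Submodule.subset_span ⟨l, rfl⟩)
    haveI := FiniteDimensional.span_of_finite K (Set.finite_range fun l => ((bU l : U) : A[X]).map (algebraMap A K))
    have h3 := (finrank_span_eq_card hli).symm.le.trans ((Submodule.finrank_mono (Submodule.span_le.2 hsub)).trans
      (finrank_range_le_card (R := K) fun l => ((bU l : U) : A[X]).map (algebraMap A K)))
    simpa using h3
  exact ⟨fun i => ((bU (Fin.castLE hqN i) : U) : A[X]), fun i => hinM _ (bU _).2,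
    fun i => ((hmemU _).1 (bU _).2).2, hred.comp _ (Fin.castLE_injective hqN)⟩

end Lim

end Groth.Agent.RamP1.Insep
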