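import Groth.Agent.RamP1.Insep

/-!
# The special position forced by an inseparable limit
-/

set_option autoImplicit false

universe u

open Polynomial W4c1limliniiii

namespace Groth.Agent.RamP1.Insep

variable {k : Type u} [Field k] {p : ℕ} [Fact p.Prime] [CharP k p]

/-- Some combination with constant coefficients vanishes to order `e` at `t`. -/
def Van (a b : k[X]) (t : k) (e : ℕ) : Prop :=
  ∃ l m : k, (l ≠ 0 ∨ m ≠ 0) ∧ (X - C t) ^ e ∣ C l * a + C m * b

theorem van_sub {a b : k[X]} {t : k} {e : ℕ} (he : e ≤ p) (c : k[X]) (h : Van a b t e) :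
    Van a (b - expand k p c * a) t e := by
  obtain ⟨l, m, hlm, hd⟩ := h
  refine ⟨l + m * c.eval (t ^ p), m, ?_, ?_⟩
  · rcases eq_or_ne m 0 with hm | hm
    · left; simpa [hm] using hlm
    · exact Or.inr hm
  · have := dvd_sub hd ((dvd_ex_sub p c t he).mul_left (C m * a))
    convert this using 1
    simp only [map_add, map_mul]
    ring

theorem van_symm {a b : k[X]} {t : k} {e : ℕ} (h : Van a b t e) : Van b a t e := by
  obtain ⟨l, m, hlm, hd⟩ := h
  exact ⟨m, l, hlm.symm, by rwa [add_comm]⟩

theorem natDegree_ex (a : k[X]) : (expand k p a).natDegree = a.natDegree * p := natDegree_expand p a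

theorem inMod_symm {a b s : k[X]} (h : InMod p a b s) : InMod p b a s := by
  obtain ⟨x, y, rfl⟩ := h
  exact ⟨y, x, add_comm _ _⟩

theorem inMod_trans {P Q a b s : k[X]} (hP : InMod p a b P) (hQ : InMod p a b Q) (hs : InMod p P Q s) :
    InMod p a b s := by
  obtain ⟨x₁, y₁, hP⟩ := hP
  obtain ⟨x₂, y₂, hQ⟩ := hQ
  obtain ⟨x, y, hs⟩ := hs
  exact ⟨x * x₁ + y * x₂, x * y₁ + y * y₂, by rw [hs, hP, hQ]; simp only [map_add, map_mul]; ring⟩

theorem exists_normal {n : ℕ} (t : Fin n → k) (e : Fin n → ℕ) (he : ∀ i, e i ≤ p) {Φ : k[X]} (hΦ : Φ ≠ 0)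
    (F G : k[X]) : ∀ (N : ℕ) (a b : k[X]), a.natDegree + b.natDegree ≤ N →
      ∀ u : k, u ≠ 0 → wronskian a b = C u * Φ → (∀ i, Van a b (t i) (e i)) → InMod p a b F → InMod p a b G →
      ∃ (a' b' : k[X]) (u' : k), u' ≠ 0 ∧ wronskian a' b' = C u' * Φ ∧ (∀ i, Van a' b' (t i) (e i)) ∧
        InMod p a' b' F ∧ InMod p a' b' G ∧ a'.natDegree < b'.natDegree ∧
        a'.natDegree % p ≠ b'.natDegree % p := by
  intro N
  induction N using Nat.strong_induction_on with
  | _ N ih =>
    intro a b hN u hu hW hV hF hG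
    wlog hab : a.natDegree ≤ b.natDegree generalizing a b u with H
    · exact H b a (by omega) (-u) (neg_ne_zero.2 hu)
        (by rw [← wronskian_neg_eq, hW, map_neg, neg_mul]) (fun i => van_symm (hV i)) (inMod_symm hF) (inMod_symm hG)
        (le_of_not_ge hab)
    by_cases hr : a.natDegree % p = b.natDegree % p
    · obtain ⟨i, hi⟩ : p ∣ b.natDegree - a.natDegree := (Nat.modEq_iff_dvd' hab).1 hr
      have hW0 : wronskian a b ≠ 0 := by rw [hW]; exact mul_ne_zero (C_ne_zero.2 hu) hΦ
      have ha : a ≠ 0 := by rintro rfl; exact hW0 (wronskian_zero_left b)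
      have hb : b ≠ 0 := by rintro rfl; exact hW0 (wronskian_zero_right a)
      let c : k[X] := C (b.leadingCoeff / a.leadingCoeff) * X ^ i
      have hc : expand k p c = C (b.leadingCoeff / a.leadingCoeff) * X ^ (b.natDegree - a.natDegree) := by
        simp only [c, map_mul, expand_C, map_pow, expand_X]
        rw [← pow_mul, hi]
      have hW' : wronskian a (b - expand k p c * a) = C u * Φ := by
        rw [← hW]
        simp only [wronskian, derivative_sub, derivative_mul, derivative_ex]
        ring
      have hlt : (b - expand k p c * a).natDegree < b.natDegree ∨ b - expand k p c * a = 0 := by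
        rcases eq_or_ne (b - expand k p c * a) 0 with h0 | h0
        · exact Or.inr h0
        · refine Or.inl (natDegree_lt_natDegree h0 (degree_sub_lt ?_ hb ?_))
          · rw [degree_mul, hc, degree_C_mul_X_pow _ (div_ne_zero (leadingCoeff_ne_zero.2 hb) (leadingCoeff_ne_zero.2 ha)),
              degree_eq_natDegree ha, degree_eq_natDegree hb]
            exact_mod_cast (Nat.sub_add_cancel hab).symm
          · rw [leadingCoeff_mul, hc, leadingCoeff_C_mul_X_pow, div_mul_cancel₀ _ (leadingCoeff_ne_zero.2 ha)]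
      rcases hlt with hlt | h0
      · refine ih _ (show a.natDegree + (b - expand k p c * a).natDegree < N by omega) a _ le_rfl u hu hW'
          (fun i => van_sub (he i) c (hV i)) ?_ ?_
        · obtain ⟨x, y, hxy⟩ := hF
          exact ⟨x + y * c, y, by rw [hxy, map_add, map_mul]; ring⟩
        · obtain ⟨x, y, hxy⟩ := hG
          exact ⟨x + y * c, y, by rw [hxy, map_add, map_mul]; ring⟩
      · exfalso
        rw [h0, wronskian_zero_right] at hW'
        exact mul_ne_zero (C_ne_zero.2 hu) hΦ hW'.symm
    · exact ⟨a, b, u, hu, hW, hV, hF, hG, lt_of_le_of_ne hab fun h => hr (by rw [h]), hr⟩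

theorem natDegree_wronskian_normal {a b : k[X]} (ha : a ≠ 0) (hb : b ≠ 0) (h : a.natDegree % p ≠ b.natDegree % p) :
    wronskian a b ≠ 0 ∧ (wronskian a b).natDegree + 1 = a.natDegree + b.natDegree := by
  have hW : wronskian a b ≠ 0 → (wronskian a b).natDegree < a.natDegree + b.natDegree := natDegree_wronskian_lt_add
  set α := a.natDegree
  set β := b.natDegree
  have hαβ : α ≠ β := fun e => h (by rw [e])
  have hpos : 1 ≤ α + β := by omega
  have key : (wronskian a b).coeff (α + β - 1) = ((β : k) - (α : k)) * (a.leadingCoeff * b.leadingCoeff) := by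
    have e1 : ∀ (s t : k[X]), 1 ≤ s.natDegree + t.natDegree →
        (s * derivative t).coeff (s.natDegree + t.natDegree - 1) = (t.natDegree : k) * (s.leadingCoeff * t.leadingCoeff) := by
      intro s t hst
      rcases Nat.eq_zero_or_pos t.natDegree with h0 | h0
      · rw [derivative_of_natDegree_zero h0, mul_zero, coeff_zero, h0, Nat.cast_zero, zero_mul]
      · rw [show s.natDegree + t.natDegree - 1 = s.natDegree + (t.natDegree - 1) by omega,
          coeff_mul_add_eq_of_natDegree_le le_rfl (natDegree_derivative_le t), coeff_derivative,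
          Nat.sub_add_cancel h0, Nat.cast_sub h0, leadingCoeff, leadingCoeff]
        push_cast
        ring
    have e2 := e1 b a (by omega)
    rw [show b.natDegree + a.natDegree - 1 = α + β - 1 by omega] at e2
    rw [wronskian, coeff_sub, e1 a b hpos, mul_comm (derivative a) b, e2]
    ring
  have hne : (wronskian a b).coeff (α + β - 1) ≠ 0 := by
    rw [key]
    refine mul_ne_zero (sub_ne_zero.2 fun e => h ?_) (mul_ne_zero (leadingCoeff_ne_zero.2 ha) (leadingCoeff_ne_zero.2 hb))
    exact ((CharP.natCast_eq_natCast k p).1 e.symm : α % p = β % p)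
  have h1 := le_natDegree_of_ne_zero hne
  have h2 := hW fun h0 => hne (by rw [h0, coeff_zero])
  exact ⟨fun h0 => hne (by rw [h0, coeff_zero]), by omega⟩

theorem natDegree_comb {a b x y : k[X]} (ha : a ≠ 0) (hb : b ≠ 0) (h : a.natDegree % p ≠ b.natDegree % p) :
    (x ≠ 0 → x.natDegree * p + a.natDegree ≤ (expand k p x * a + expand k p y * b).natDegree) ∧
    (y ≠ 0 → y.natDegree * p + b.natDegree ≤ (expand k p x * a + expand k p y * b).natDegree) := by
  have hp := (Fact.out : p.Prime).pos
  by_cases hx : x = 0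
  · refine ⟨fun h' => absurd hx h', fun hy => ?_⟩
    rw [hx, map_zero, zero_mul, zero_add, natDegree_mul ((expand_eq_zero hp).not.2 hy) hb, natDegree_ex]
  by_cases hy : y = 0
  · refine ⟨fun _ => ?_, fun h' => absurd hy h'⟩
    rw [hy, map_zero, zero_mul, add_zero, natDegree_mul ((expand_eq_zero hp).not.2 hx) ha, natDegree_ex]
  have h1 : (expand k p x * a).natDegree = x.natDegree * p + a.natDegree := by
    rw [natDegree_mul ((expand_eq_zero hp).not.2 hx) ha, natDegree_ex]
  have h2 : (expand k p y * b).natDegree = y.natDegree * p + b.natDegree := by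
    rw [natDegree_mul ((expand_eq_zero hp).not.2 hy) hb, natDegree_ex]
  have hne : x.natDegree * p + a.natDegree ≠ y.natDegree * p + b.natDegree := fun e => h (by
    have := congrArg (· % p) e
    simpa [Nat.add_mod] using this)
  rcases lt_or_gt_of_ne hne with hlt | hlt
  · rw [natDegree_add_eq_right_of_natDegree_lt (by rw [h1, h2]; exact hlt), h2]
    exact ⟨fun _ => hlt.le, fun _ => le_rfl⟩
  · rw [natDegree_add_eq_left_of_natDegree_lt (by rw [h1, h2]; exact hlt), h1]
    exact ⟨fun _ => le_rfl, fun _ => hlt.le⟩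

/-- The combinatorics of the degrees. -/
theorem degrees {a b : k[X]} {d : ℕ} (hd : 1 ≤ d) (ha : a ≠ 0) (hb : b ≠ 0) (hab : a.natDegree < b.natDegree)
    (hr : a.natDegree % p ≠ b.natDegree % p) (hsum : a.natDegree + b.natDegree + 1 = 2 * d) {F G : k[X]}
    (hli : LinearIndependent k ![F, G]) (hW : wronskian F G = 0) (hFd : F.natDegree ≤ d) (hGd : G.natDegree ≤ d)
    (hF : InMod p a b F) (hG : InMod p a b G) :
    p + a.natDegree ≤ d ∧ d < b.natDegree := by
  have hp := (Fact.out : p.Prime).pos
  have hWab : wronskian a b ≠ 0 := (natDegree_wronskian_normal ha hb hr).1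
  obtain ⟨x₁, y₁, hF'⟩ := hF
  obtain ⟨x₂, y₂, hG'⟩ := hG
  have hbd : d < b.natDegree := by
    by_contra hle
    rw [not_lt] at hle
    have hadeg : a.natDegree + 1 = d ∧ b.natDegree = d := by omega
    have hconst : ∀ {s x y : k[X]}, s = expand k p x * a + expand k p y * b → s.natDegree ≤ d →
        x = C (x.coeff 0) ∧ y = C (y.coeff 0) := by
      intro s x y hs hsd
      have := natDegree_comb (x := x) (y := y) ha hb hr
      rw [← hs] at this
      have hp2 := (Fact.out : p.Prime).two_le
      constructor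
      · rcases eq_or_ne x 0 with rfl | hx
        · simp
        · refine eq_C_of_natDegree_eq_zero ?_
          by_contra hx0
          have := this.1 hx
          have : p ≤ x.natDegree * p := Nat.le_mul_of_pos_left p (Nat.pos_of_ne_zero hx0)
          omega
      · rcases eq_or_ne y 0 with rfl | hy
        · simp
        · refine eq_C_of_natDegree_eq_zero ?_
          by_contra hy0
          have := this.2 hy
          have : p ≤ y.natDegree * p := Nat.le_mul_of_pos_left p (Nat.pos_of_ne_zero hy0)
          omega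
    obtain ⟨hx₁, hy₁⟩ := hconst hF' hFd
    obtain ⟨hx₂, hy₂⟩ := hconst hG' hGd
    have h1 : wronskian F G = expand k p (x₁ * y₂ - y₁ * x₂) * wronskian a b := by
      rw [hF', hG', wronskian_comb]
    rw [hW, eq_comm, mul_eq_zero, or_iff_left hWab, expand_eq_zero hp, hx₁, hy₁, hx₂, hy₂, ← map_mul, ← map_mul,
      ← map_sub, C_eq_zero] at h1
    rw [hx₁, hy₁] at hF'
    rw [hx₂, hy₂] at hG'
    simp only [expand_C] at hF' hG'
    have hne := hli
    rw [LinearIndependent.pair_iff] at hne
    have e1 : (y₂.coeff 0) • F + (-(y₁.coeff 0)) • G = 0 := by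
      rw [hF', hG', smul_eq_C_mul, smul_eq_C_mul, map_neg]
      have : C (x₁.coeff 0 * y₂.coeff 0 - y₁.coeff 0 * x₂.coeff 0) = (0 : k[X]) := by rw [h1, map_zero]
      simp only [map_sub, map_mul] at this
      linear_combination a * this
    obtain ⟨h2, h3⟩ := hne _ _ e1
    have e2 : (x₂.coeff 0) • F + (-(x₁.coeff 0)) • G = 0 := by
      rw [hF', hG', smul_eq_C_mul, smul_eq_C_mul, map_neg]
      have : C (x₁.coeff 0 * y₂.coeff 0 - y₁.coeff 0 * x₂.coeff 0) = (0 : k[X]) := by rw [h1, map_zero]
      simp only [map_sub, map_mul] at this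
      linear_combination -b * this
    obtain ⟨h4, h5⟩ := hne _ _ e2
    rw [neg_eq_zero] at h3 h5
    rw [h3, h5] at hF'
    simp only [map_zero, zero_mul, add_zero] at hF'
    exact (hli.ne_zero 0) (by simpa using hF')
  refine ⟨?_, hbd⟩
  by_contra hlt
  rw [not_le] at hlt
  have hsm : ∀ {s x y : k[X]}, s = expand k p x * a + expand k p y * b → s.natDegree ≤ d →
      s = x.coeff 0 • a := by
    intro s x y hs hsd
    have := natDegree_comb (x := x) (y := y) ha hb hr
    rw [← hs] at this
    have hy : y = 0 := by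
      by_contra hy
      have := this.2 hy
      omega
    have hx : x = C (x.coeff 0) := by
      rcases eq_or_ne x 0 with rfl | hx
      · simp
      · refine eq_C_of_natDegree_eq_zero ?_
        by_contra hx0
        have := this.1 hx
        have : p ≤ x.natDegree * p := Nat.le_mul_of_pos_left p (Nat.pos_of_ne_zero hx0)
        omega
    rw [hs, hy, map_zero, zero_mul, add_zero]
    conv_lhs => rw [hx, expand_C]
    rw [smul_eq_C_mul]
  have eF := hsm hF' hFd
  have eG := hsm hG' hGd
  have := LinearIndependent.pair_iff.1 hli (x₂.coeff 0) (-(x₁.coeff 0)) (by rw [eF, eG, smul_smul, smul_smul, ← add_smul]; simp [mul_comm])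
  rw [neg_eq_zero] at this
  exact hli.ne_zero 0 (by simp [eF, this.2])

theorem li_powers {K : Type u} [Field K] [CharP K p] {F G : K[X]} (hW : wronskian F G ≠ 0) (m : ℕ) :
    LinearIndependent K (Fin.append (fun i : Fin (m + 1) => expand K p (X ^ (i : ℕ)) * F)
      (fun i : Fin (m + 1) => expand K p (X ^ (i : ℕ)) * G)) := by
  rw [Fintype.linearIndependent_iff]
  intro c hc
  rw [Fin.sum_univ_add] at hc
  simp only [Fin.append_left, Fin.append_right] at hc
  obtain ⟨h1, h2⟩ := eq_zero_of_comb p hW (a := ∑ i : Fin (m + 1), C (c (Fin.castAdd _ i)) * X ^ (i : ℕ))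
    (b := ∑ i : Fin (m + 1), C (c (Fin.natAdd _ i)) * X ^ (i : ℕ)) (by
    rw [← hc, map_sum, map_sum, Finset.sum_mul, Finset.sum_mul]
    simp [smul_eq_C_mul, mul_assoc])
  intro i
  refine Fin.addCases (fun j => ?_) (fun j => ?_) i
  · have := congrArg (coeff · (j : ℕ)) h1
    simpa [finset_sum_coeff, coeff_C_mul, coeff_X_pow, Fin.val_inj] using this
  · have := congrArg (coeff · (j : ℕ)) h2
    simpa [finset_sum_coeff, coeff_C_mul, coeff_X_pow, Fin.val_inj] using this

/-- The main statement. -/
theorem main (k₀ : Type u) [Field k₀] (A : Type u) [CommRing A] [IsDomain A] [IsDiscreteValuationRing A] [CharP A p]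
    [Algebra k₀ A] (hcoef : Function.Bijective (algebraMap k₀ (IsLocalRing.ResidueField A)))
    (K : Type u) [Field K] [Algebra A K] [IsFractionRing A K]
    (d n : ℕ) (e : Fin n → ℕ) (he : Admissible p d e) (hlt : ∀ i, e i < p) (P : Fin n → A) (F G : A[X])
    (hF : F.natDegree ≤ d) (hG : G.natDegree ≤ d)
    (hind : LinearIndependent (IsLocalRing.ResidueField A) ![F.map (IsLocalRing.residue A), G.map (IsLocalRing.residue A)])
    (hgen : Submodule.span K {F.map (algebraMap A K), G.map (algebraMap A K)} ∈
      ramMaps d (fun i => algebraMap A K (P i)) e)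
    (hinsep : ¬ IsSeparable (Submodule.span (IsLocalRing.ResidueField A)
        {F.map (IsLocalRing.residue A), G.map (IsLocalRing.residue A)}))
    (hdist : Function.Injective (fun i => IsLocalRing.residue A (P i))) :
    ∃ m ε : ℕ, 1 ≤ m ∧ m * p ≤ d ∧ ε ≤ 1 ∧
      ∃ V ∈ ramMaps (d + m * p - 1 + ε) (fun i => IsLocalRing.residue A (P i)) e,
        HasRamIdxInf (d + m * p - 1 + ε) V (2 * m * p - 1 + 2 * ε) := by
  classical
  haveI : CharP (IsLocalRing.ResidueField A) p := by
    refine (CharP.charP_iff_prime_eq_zero (Fact.out : p.Prime)).2 ?_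
    rw [← map_natCast (IsLocalRing.residue A), CharP.cast_eq_zero, map_zero]
  haveI : CharP K p := charP_of_injective_algebraMap (IsFractionRing.injective A K) p
  let res := IsLocalRing.residue A
  let φ := algebraMap A K
  let eq := RingEquiv.ofBijective (algebraMap k₀ (IsLocalRing.ResidueField A)) hcoef
  let σ : IsLocalRing.ResidueField A →+* A := (algebraMap k₀ A).comp eq.symm.toRingHom
  have hσ : ∀ x, res (σ x) = x := fun x => by
    show res (algebraMap k₀ A (eq.symm x)) = x
    conv_rhs => rw [← eq.apply_symm_apply x]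
    exact (IsScalarTower.algebraMap_apply k₀ A (IsLocalRing.ResidueField A) _).symm
  obtain ⟨ϖ, hϖ⟩ := IsDiscreteValuationRing.exists_irreducible A
  obtain ⟨⟨hle, hfr, ⟨s₀, hs₀, hs₀d⟩, -⟩, hsepK, hram⟩ := hgen
  have hWK : wronskian (F.map φ) (G.map φ) ≠ 0 := (isSeparable_span_iff _ _).1 hsepK
  have hd1 : 1 ≤ d := by
    by_contra hd0
    rw [not_le, Nat.lt_one_iff] at hd0
    apply hWK
    have h1 : (F.map φ).natDegree = 0 := by have := natDegree_map_le (f := φ) (p := F); omega
    have h2 : (G.map φ).natDegree = 0 := by have := natDegree_map_le (f := φ) (p := G); omega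
    rw [wronskian, derivative_of_natDegree_zero h1, derivative_of_natDegree_zero h2]
    ring
  -- the Wronskian
  let Φ : A[X] := ∏ i, (X - C (P i)) ^ (e i - 1)
  have hΦ : Φ.Monic := monic_prod_of_monic _ _ fun i _ => (monic_X_sub_C _).pow _
  have hΦd : Φ.natDegree + 2 = 2 * d := by
    rw [natDegree_prod_of_monic _ _ fun i _ => (monic_X_sub_C _).pow _]
    simp only [natDegree_pow, natDegree_X_sub_C, mul_one]
    exact sum_sub_one he
  have hinjP : Function.Injective fun i => φ (P i) := fun i j h => hdist (congrArg res (IsFractionRing.injective A K h))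
  have hΦdvd : Φ.map φ ∣ wronskian (F.map φ) (G.map φ) := by
    simp only [Φ, Polynomial.map_prod, Polynomial.map_pow, Polynomial.map_sub, map_X, map_C]
    refine Finset.prod_dvd_of_coprime (fun i _ j _ hij => (pairwise_coprime_X_sub_C hinjP hij).pow) fun i _ => ?_
    obtain ⟨s, hs, hs0, hse⟩ := (hram i).1
    exact dvd_wronskian_of_schubert hfr rfl hs hs0 ((le_rootMultiplicity_iff hs0).1 hse)
  obtain ⟨q, hq⟩ := hΦdvd
  have hq0 : q.natDegree = 0 := by
    have h1 := natDegree_wronskian_le (natDegree_map_le.trans hF) (natDegree_map_le.trans hG) hWK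
    rw [hq, natDegree_mul (hΦ.map φ).ne_zero (fun h0 => hWK (by rw [hq, h0, mul_zero])), hΦ.natDegree_map] at h1
    omega
  have hWA : wronskian F G = C ((wronskian F G).coeff Φ.natDegree) * Φ := by
    refine map_injective φ (IsFractionRing.injective A K) ?_
    rw [Polynomial.map_mul, map_C, ← coeff_map, map_wronskian, hq, mul_comm (C _)]
    congr 1
    conv_lhs => rw [eq_C_of_natDegree_eq_zero hq0]
    rw [eq_C_of_natDegree_eq_zero hq0, coeff_mul_C, coeff_C_zero, ← hΦ.natDegree_map φ,
      coeff_natDegree, (hΦ.map φ).leadingCoeff, one_mul]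
  have hc0 : (wronskian F G).coeff Φ.natDegree ≠ 0 := fun h0 => hWK (by
    rw [← map_wronskian, hWA, h0, map_zero, zero_mul, Polynomial.map_zero])
  obtain ⟨j, u, hju⟩ := IsDiscreteValuationRing.eq_unit_mul_pow_irreducible hc0 hϖ
  have hV0 : ∀ i, Vanishes K F G (P i) (e i) := fun i => by
    obtain ⟨s, hs, hs0, hse⟩ := (hram i).1
    obtain ⟨l, m, hlm⟩ := Submodule.mem_span_pair.1 hs
    refine ⟨l, m, ?_, ?_⟩
    · by_contra hc
      rw [not_or, not_not, not_not] at hc
      exact hs0 (by rw [← hlm, hc.1, hc.2, zero_smul, zero_smul, add_zero])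
    · rw [← smul_eq_C_mul, ← smul_eq_C_mul, hlm]
      exact (le_rootMultiplicity_iff hs0).1 hse
  obtain ⟨P', Q', u', hW', hV', hF', hG'⟩ := exists_limit σ hσ hϖ P e (fun i => (hlt i).le) Φ hΦ F G j F G u
    (by rw [← hju]; exact hWA) hV0 ⟨1, 0, by simp⟩ ⟨0, 1, by simp⟩
  have hWres : wronskian (P'.map res) (Q'.map res) = C (res u') * Φ.map res := by
    rw [← map_wronskian, hW', Polynomial.map_mul, map_C]
  have hu'0 : res (u' : A) ≠ 0 := (u'.isUnit.map res).ne_zero
  have hred : ∀ {s : A[X]}, InMod p P' Q' s → InMod p (P'.map res) (Q'.map res) (s.map res) := by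
    rintro s ⟨x, y, rfl⟩
    exact ⟨x.map res, y.map res, by rw [Polynomial.map_add, Polynomial.map_mul, Polynomial.map_mul, map_expand, map_expand]⟩
  obtain ⟨a, b, c, hc, hWab, hVab, hPab, hQab, hab, hrab⟩ := exists_normal (fun i => res (P i)) e
    (fun i => (hlt i).le) (hΦ.map res).ne_zero (P'.map res) (Q'.map res) _ (P'.map res) (Q'.map res) le_rfl (res u') hu'0
    hWres (fun i => vanishes_residue hϖ (hV' i)) ⟨1, 0, by simp⟩ ⟨0, 1, by simp⟩
  have hFab := inMod_trans hPab hQab (hred hF')
  have hGab := inMod_trans hPab hQab (hred hG')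
  have hWab0 : wronskian a b ≠ 0 := by rw [hWab]; exact mul_ne_zero (C_ne_zero.2 hc) (hΦ.map res).ne_zero
  have ha : a ≠ 0 := by rintro rfl; exact hWab0 (wronskian_zero_left b)
  have hb : b ≠ 0 := by rintro rfl; exact hWab0 (wronskian_zero_right a)
  have hsum : a.natDegree + b.natDegree + 1 = 2 * d := by
    have := (natDegree_wronskian_normal ha hb hrab).2
    rw [hWab, natDegree_C_mul hc, hΦ.natDegree_map] at this
    omega
  have hWres0 : wronskian (F.map res) (G.map res) = 0 := by
    by_contra h0
    exact hinsep ((isSeparable_span_iff _ _).2 h0)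
  obtain ⟨hpa, hdb⟩ := degrees hd1 ha hb hab hrab hsum hind hWres0 (natDegree_map_le.trans hF)
    (natDegree_map_le.trans hG) hFab hGab
  have hp := (Fact.out : p.Prime).pos
  set m := (d - a.natDegree) / p with hm
  set ε := (d - a.natDegree) % p with hε
  have hdm := Nat.div_add_mod (d - a.natDegree) p
  have hm1 : 1 ≤ m := (Nat.one_le_div_iff hp).2 (by omega)
  have hmp : p * m + ε = d - a.natDegree := hdm
  have hε1 : ε ≤ 1 := by
    by_contra hε2
    rw [not_le] at hε2
    -- too many members of bounded degree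
    obtain ⟨r, hr, hrd, hrli⟩ := exists_independent_residues (K := K) (j := d + m * p) hϖ
      (by rw [hWres]; exact mul_ne_zero (C_ne_zero.2 hu'0) (hΦ.map res).ne_zero)
      (Fin.append (fun i : Fin (m + 1) => expand A p (X ^ (i : ℕ)) * F)
        (fun i : Fin (m + 1) => expand A p (X ^ (i : ℕ)) * G))
      (by
        intro i
        refine Fin.addCases (fun l => ?_) (fun l => ?_) i
        · rw [Fin.append_left]
          obtain ⟨x, y, hxy⟩ := hF'
          exact ⟨X ^ (l : ℕ) * x, X ^ (l : ℕ) * y, by rw [hxy, map_mul, map_mul]; ring⟩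
        · rw [Fin.append_right]
          obtain ⟨x, y, hxy⟩ := hG'
          exact ⟨X ^ (l : ℕ) * x, X ^ (l : ℕ) * y, by rw [hxy, map_mul, map_mul]; ring⟩)
      (by
        intro i
        have hb' : ∀ (l : Fin (m + 1)) (s : A[X]), s.natDegree ≤ d →
            (expand A p (X ^ (l : ℕ)) * s).natDegree ≤ d + m * p := fun l s hs => by
          refine natDegree_mul_le.trans ?_
          rw [natDegree_expand, natDegree_X_pow]
          have : (l : ℕ) * p ≤ m * p := Nat.mul_le_mul_right p (Nat.lt_succ_iff.1 l.2)
          omega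
        refine Fin.addCases (fun l => ?_) (fun l => ?_) i
        · rw [Fin.append_left]; exact hb' l F hF
        · rw [Fin.append_right]; exact hb' l G hG)
      (by
        have := li_powers (p := p) hWK m
        convert this using 1
        funext i
        refine Fin.addCases (fun l => ?_) (fun l => ?_) i
        · simp [Fin.append_left, map_expand, φ]
        · simp only [Fin.append_right, Polynomial.map_mul, map_expand, Polynomial.map_pow, map_X, φ])
    have hspan : ∀ i, (r i).map res ∈ Submodule.span (IsLocalRing.ResidueField A)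
        (Set.range fun l : Fin (2 * m + 1) => expand (IsLocalRing.ResidueField A) p (X ^ (l : ℕ)) * a) := by
      intro i
      obtain ⟨x, y, hxy⟩ := inMod_trans hPab hQab (hred (hr i))
      have hd' : ((r i).map res).natDegree ≤ d + m * p := natDegree_map_le.trans (hrd i)
      have := natDegree_comb (x := x) (y := y) ha hb hrab
      rw [← hxy] at this
      have hy : y = 0 := by
        by_contra hy
        have := this.2 hy
        rw [Nat.mul_comm p m] at hmp
        omega
      have hx : x.natDegree < 2 * m + 1 := by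
        by_contra hx
        rw [not_lt] at hx
        have := this.1 (fun h => by simp [h] at hx)
        have h2 : (2 * m + 1) * p ≤ x.natDegree * p := Nat.mul_le_mul_right p hx
        have : (2 * m + 1) * p = 2 * (m * p) + p := by ring
        rw [Nat.mul_comm p m] at hmp
        have := Nat.mod_lt (d - a.natDegree) hp
        omega
      rw [hxy, hy, map_zero, zero_mul, add_zero]
      rw [x.as_sum_range_C_mul_X_pow' hx, map_sum, Finset.sum_mul]
      refine Submodule.sum_mem _ fun l hl => ?_
      rw [map_mul, expand_C, mul_assoc, ← smul_eq_C_mul]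
      exact Submodule.smul_mem _ _ (Submodule.subset_span ⟨⟨l, Finset.mem_range.1 hl⟩, rfl⟩)
    haveI := FiniteDimensional.span_of_finite (IsLocalRing.ResidueField A)
      (Set.finite_range fun l : Fin (2 * m + 1) => expand (IsLocalRing.ResidueField A) p (X ^ (l : ℕ)) * a)
    have := (finrank_span_eq_card hrli).symm.le.trans ((Submodule.finrank_mono (Submodule.span_le.2
      (Set.range_subset_iff.2 hspan))).trans (finrank_range_le_card (R := IsLocalRing.ResidueField A) _))
    simp at this
    omega
  refine ⟨m, ε, hm1, by rw [Nat.mul_comm]; omega, hε1, Submodule.span _ {a, b}, ?_, ?_⟩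
  · have hD : d + m * p - 1 + ε = b.natDegree := by rw [Nat.mul_comm p m] at hmp; omega
    rw [hD]
    have hvan : ∀ i, ∃ s ∈ Submodule.span (IsLocalRing.ResidueField A) ({a, b} : Set _),
        s ≠ 0 ∧ (X - C (res (P i))) ^ e i ∣ s := fun i => by
      obtain ⟨l, m', hlm, hdvd⟩ := hVab i
      refine ⟨C l * a + C m' * b, ?_, fun h0 => ?_, hdvd⟩
      · rw [← smul_eq_C_mul, ← smul_eq_C_mul]; exact Submodule.mem_span_pair.2 ⟨l, m', rfl⟩
      · rw [← smul_eq_C_mul, ← smul_eq_C_mul] at h0
        obtain ⟨h1, h2⟩ := LinearIndependent.pair_iff.1 (li_of_wronskian_ne_zero hWab0) l m' h0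
        rcases hlm with h | h <;> [exact h h1; exact h h2]
    have hfr' := finrank_span_pair (li_of_wronskian_ne_zero hWab0)
    have hroot : ∀ i, (Φ.map res).rootMultiplicity (res (P i)) = e i - 1 := fun i => by
      simp only [Φ, Polynomial.map_prod, Polynomial.map_pow, Polynomial.map_sub, map_X, map_C]
      rw [← count_roots, roots_prod _ _ (Finset.prod_ne_zero_iff.2 fun j _ => pow_ne_zero _ (X_sub_C_ne_zero _))]
      simp only [roots_pow, roots_X_sub_C, Multiset.count_bind, Multiset.count_nsmul, Multiset.count_singleton]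
      show ∑ j, _ = _
      rw [Finset.sum_eq_single i]
      · simp [res]
      · intro j _ hji
        rw [if_neg (fun h => hji (hdist h).symm), mul_zero]
      · simp
    have hrootW : ∀ i, (wronskian a b).rootMultiplicity (res (P i)) = e i - 1 := fun i => by
      rw [hWab, ← count_roots, roots_C_mul _ hc, count_roots, hroot]
    refine ⟨⟨?_, hfr', ⟨b, Submodule.subset_span (by simp), rfl⟩, fun t => ?_⟩, (isSeparable_span_iff _ _).2 hWab0, fun i => ⟨?_, ?_⟩⟩
    · rw [Submodule.span_le]
      rintro s (rfl | rfl)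
      · exact mem_degreeLE.2 (natDegree_le_iff_degree_le.1 hab.le)
      · exact mem_degreeLE.2 (natDegree_le_iff_degree_le.1 le_rfl)
    · by_contra hz
      push Not at hz
      have hat : X - C t ∣ a := dvd_iff_isRoot.2 (hz a (Submodule.subset_span (by simp)))
      have hbt : X - C t ∣ b := dvd_iff_isRoot.2 (hz b (Submodule.subset_span (by simp)))
      by_cases hti : ∃ i, res (P i) = t
      · obtain ⟨i, rfl⟩ := hti
        obtain ⟨s, hs, hs0, hse⟩ := hvan i
        obtain ⟨s', hs', hli', hsp⟩ := exists_basis hfr' hs hs0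
        have h1 := dvd_wronskian_of_root hse (dvd_iff_isRoot.2 (hz s' hs'))
        obtain ⟨l, m', hlm⟩ := Submodule.mem_span_pair.1 (hsp ▸ Submodule.subset_span (by simp) :
          a ∈ Submodule.span _ ({s, s'} : Set _))
        obtain ⟨l₂, m₂, hlm₂⟩ := Submodule.mem_span_pair.1 (hsp ▸ Submodule.subset_span (by simp) :
          b ∈ Submodule.span _ ({s, s'} : Set _))
        have h2 : (X - C (res (P i))) ^ e i ∣ wronskian a b := by
          rw [← hlm, ← hlm₂, Groth.Agent.RamP1.wronskian_comb, smul_eq_C_mul]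
          exact h1.mul_left _
        have h3 := (le_rootMultiplicity_iff hWab0).2 h2
        rw [hrootW] at h3
        have := (he.1 i).1
        omega
      · have h2 : (Φ.map res).IsRoot t := by
          have h3 : X - C t ∣ wronskian a b := dvd_sub (hat.mul_right _) (hbt.mul_left _)
          rw [hWab] at h3
          exact dvd_iff_isRoot.1 ((IsUnit.dvd_mul_left (isUnit_C.2 (isUnit_iff_ne_zero.2 hc))).1 h3)
        simp only [Φ, Polynomial.map_prod, Polynomial.map_pow, Polynomial.map_sub, map_X, map_C, IsRoot, eval_prod,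
          eval_pow, eval_sub, eval_X, eval_C, Finset.prod_eq_zero_iff] at h2
        obtain ⟨i, -, hi⟩ := h2
        exact hti ⟨i, (sub_eq_zero.1 (pow_eq_zero_iff'.1 hi).1).symm⟩
    · obtain ⟨s, hs, hs0, hse⟩ := hvan i
      exact ⟨s, hs, hs0, (le_rootMultiplicity_iff hs0).2 hse⟩
    · intro s hs hs0
      by_contra hgt
      rw [not_le] at hgt
      have h2 := dvd_wronskian_of_schubert hfr' rfl hs hs0 ((le_rootMultiplicity_iff hs0).1 hgt)
      have h3 := (le_rootMultiplicity_iff hWab0).2 h2
      rw [hrootW] at h3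
      have := (he.1 i).1
      omega
  · have hD : d + m * p - 1 + ε = b.natDegree := by rw [Nat.mul_comm p m] at hmp; omega
    have hE : 2 * m * p - 1 + 2 * ε + a.natDegree = b.natDegree := by
      rw [Nat.mul_comm p m] at hmp
      have : 2 * m * p = 2 * (m * p) := by ring
      omega
    rw [hD]
    refine ⟨⟨a, Submodule.subset_span (by simp), ha, by omega⟩, fun s hs hs0 => ?_⟩
    obtain ⟨l, m', rfl⟩ := Submodule.mem_span_pair.1 hs
    have hcomb := natDegree_comb (x := C l) (y := C m') ha hb hrab
    simp only [expand_C, ← smul_eq_C_mul, natDegree_C, zero_mul, zero_add] at hcomb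
    rcases eq_or_ne l 0 with hl | hl
    · have hm' : m' ≠ 0 := fun h => hs0 (by rw [hl, h, zero_smul, zero_smul, add_zero])
      have := hcomb.2 (C_ne_zero.2 hm')
      omega
    · have := hcomb.1 (C_ne_zero.2 hl)
      omega

end Groth.Agent.RamP1.Insep
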