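import Groth.Agent.RamP1.Basic
import Mathlib.RingTheory.Kaehler.Basic
import Mathlib.RingTheory.Polynomial.Content
import Mathlib.LinearAlgebra.Dual.Lemmas

/-!
# Infinitesimal rigidity of tame pencils
-/

set_option autoImplicit false

universe u

open Polynomial

namespace Groth.Agent.RamP1.Rigid

variable {k L : Type u} [Field k] [Field L] [Algebra k L]

/-- Apply a derivation to the coefficients. -/
noncomputable def dpoly (D : Derivation k L L) (f : L[X]) : L[X] :=
  ∑ i ∈ f.support, monomial i (D (f.coeff i))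

theorem coeff_dpoly (D : Derivation k L L) (f : L[X]) (i : ℕ) : (dpoly D f).coeff i = D (f.coeff i) := by
  rw [dpoly, finsetSum_coeff]
  simp only [coeff_monomial]
  rw [Finset.sum_ite_eq']
  split
  · rfl
  · next h => rw [notMem_support_iff.1 h, map_zero]

theorem dpoly_add (D : Derivation k L L) (f g : L[X]) : dpoly D (f + g) = dpoly D f + dpoly D g :=
  Polynomial.ext fun i => by simp [coeff_dpoly]

theorem dpoly_add_left (D D' : Derivation k L L) (f : L[X]) : dpoly (D + D') f = dpoly D f + dpoly D' f :=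
  Polynomial.ext fun i => by simp [coeff_dpoly]

theorem dpoly_smul_left (c : L) (D : Derivation k L L) (f : L[X]) : dpoly (c • D) f = C c * dpoly D f :=
  Polynomial.ext fun i => by simp [coeff_dpoly, coeff_C_mul]

theorem dpoly_mul (D : Derivation k L L) (f g : L[X]) : dpoly D (f * g) = f * dpoly D g + g * dpoly D f :=
  Polynomial.ext fun i => by
    rw [mul_comm g (dpoly D f), coeff_dpoly, coeff_add, coeff_mul, coeff_mul, coeff_mul, map_sum,
      ← Finset.sum_add_distrib]
    exact Finset.sum_congr rfl fun x _ => by simp [coeff_dpoly, mul_comm]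

theorem dpoly_C (D : Derivation k L L) (c : L) : dpoly D (C c) = C (D c) :=
  Polynomial.ext fun i => by
    rw [coeff_dpoly, coeff_C, coeff_C]
    split <;> simp

theorem dpoly_pow (D : Derivation k L L) (t : L) (e : ℕ) :
    dpoly D ((X - C t) ^ e) = -C ((e : L) * D t) * (X - C t) ^ (e - 1) := by
  induction e with
  | zero => rw [pow_zero, ← C_1, dpoly_C]; simp
  | succ e ih =>
    have hX : dpoly D (X - C t) = -C (D t) := Polynomial.ext fun i => by
      rw [coeff_dpoly, coeff_sub, coeff_neg, coeff_C, coeff_C, coeff_X]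
      split <;> split <;> simp
    rw [pow_succ, dpoly_mul, ih, hX, Nat.succ_sub_one]
    rcases e with _ | e
    · simp
    · rw [Nat.succ_sub_one, Nat.cast_succ (R := L) (e + 1), pow_succ]
      simp only [map_mul, map_add, map_one]
      ring

theorem natDegree_dpoly_le (D : Derivation k L L) {f : L[X]} {m : ℕ} (h : f.natDegree ≤ m) :
    (dpoly D f).natDegree ≤ m :=
  natDegree_le_iff_coeff_eq_zero.2 fun i hi => by
    rw [coeff_dpoly, coeff_eq_zero_of_natDegree_lt (h.trans_lt hi), map_zero]

variable {n : ℕ}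

/-- The member used at the `i`-th point. -/
def Hm (h : Fin n → Bool) (F G : L[X]) (i : Fin n) : L[X] := bif h i then F else G

/-- The other member. -/
def Mm (h : Fin n → Bool) (F G : L[X]) (i : Fin n) : L[X] := bif h i then G else F

/-- A normalised pencil with prescribed tame ramification. -/
structure Good (d g : ℕ) (e : Fin n → ℕ) (h : Fin n → Bool) (F G : L[X]) (P α : Fin n → L) : Prop where
  lt : g < d
  degF : F.natDegree ≤ d
  Fd : F.coeff d = 1
  Fg : F.coeff g = 0
  degG : G.natDegree ≤ g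
  Gg : G.coeff g = 1
  two : ∀ i, 1 ≤ e i
  cast : ∀ i, (e i : L) ≠ 0
  sum : ∑ i, (e i - 1) + 2 = 2 * d
  inj : Function.Injective P
  dvd : ∀ i, (X - C (P i)) ^ e i ∣ Mm h F G i + C (α i) * Hm h F G i
  ndvd : ∀ i, ¬ (X - C (P i)) ^ (e i + 1) ∣ Mm h F G i + C (α i) * Hm h F G i
  hne : ∀ i, (Hm h F G i).eval (P i) ≠ 0
  wr : wronskian F G ≠ 0

variable {d g : ℕ} {e : Fin n → ℕ} {h : Fin n → Bool} {F G : L[X]} {P α : Fin n → L}

theorem Good.phi_monic (P : Fin n → L) (e : Fin n → ℕ) : (∏ i, (X - C (P i)) ^ (e i - 1) : L[X]).Monic :=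
  monic_prod_of_monic _ _ fun i _ => (monic_X_sub_C _).pow _

theorem Good.coprime (hg : Good d g e h F G P α) : IsCoprime F G := by
  by_contra hc
  classical
  rw [← EuclideanDomain.gcd_isUnit_iff] at hc
  have hF0 : F ≠ 0 := fun h0 => by
    have := hg.Fd
    rw [h0, coeff_zero] at this
    exact zero_ne_one this
  have h0 : EuclideanDomain.gcd F G ≠ 0 := fun h0 => hF0 (EuclideanDomain.gcd_eq_zero_iff.1 h0).1
  obtain ⟨r, hr, hrd⟩ := WfDvdMonoid.exists_irreducible_factor hc h0
  have hrF : r ∣ F := hrd.trans (EuclideanDomain.gcd_dvd_left F G)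
  have hrG : r ∣ G := hrd.trans (EuclideanDomain.gcd_dvd_right F G)
  have hW : r ∣ wronskian F G := dvd_sub (hrF.mul_right _) (hrG.mul_left _)
  have hΦ : ∏ i, (X - C (P i)) ^ (e i - 1) ∣ wronskian F G := by
    refine Finset.prod_dvd_of_coprime (fun i _ j _ hij => (pairwise_coprime_X_sub_C hg.inj hij).pow) fun i _ => ?_
    have h1 := Groth.Agent.RamP1.dvd_wronskian (hg.dvd i) (Hm h F G i)
    have h2 : wronskian (Mm h F G i + C (α i) * Hm h F G i) (Hm h F G i) = wronskian F G ∨
        wronskian (Mm h F G i + C (α i) * Hm h F G i) (Hm h F G i) = -wronskian F G := by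
      rcases hb : h i with _ | _ <;> simp only [Hm, Mm, hb, cond_true, cond_false] <;> [left; right] <;>
        simp only [wronskian, derivative_add, derivative_mul, derivative_C, zero_mul, zero_add] <;> ring
    rcases h2 with h2 | h2 <;> rw [h2] at h1
    · exact h1
    · exact (dvd_neg).1 h1
  obtain ⟨q, hq⟩ := hΦ
  have hq0 : q ≠ 0 := fun h0 => hg.wr (by rw [hq, h0, mul_zero])
  have hqd : q.natDegree = 0 := by
    have h1 := Groth.Agent.RamP1.natDegree_wronskian_le hg.degF (hg.degG.trans hg.lt.le) hg.wr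
    rw [hq, natDegree_mul (Good.phi_monic P e).ne_zero hq0,
      natDegree_prod_of_monic _ _ fun i _ => (monic_X_sub_C _).pow _] at h1
    simp only [natDegree_pow, natDegree_X_sub_C, mul_one] at h1
    have := hg.sum
    omega
  rw [hq] at hW
  rcases hr.prime.dvd_or_dvd hW with hW | hW
  · obtain ⟨i, -, hi⟩ := hr.prime.exists_mem_finset_dvd hW
    have ha : Associated r (X - C (P i)) :=
      hr.associated_of_dvd (irreducible_X_sub_C _) (hr.prime.dvd_of_dvd_pow hi)
    have e1 : (X - C (P i)) ∣ F := ha.symm.dvd.trans hrF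
    have e2 : (X - C (P i)) ∣ G := ha.symm.dvd.trans hrG
    apply hg.hne i
    rcases hb : h i with _ | _ <;> simp only [Hm, hb, cond_true, cond_false]
    · exact dvd_iff_isRoot.1 e2
    · exact dvd_iff_isRoot.1 e1
  · exact hr.not_isUnit (isUnit_of_dvd_unit hW (isUnit_iff_degree_eq_zero.2
      (by rw [degree_eq_natDegree hq0, hqd]; rfl)))

variable (h F G P α)

/-- The sign at the `i`-th point. -/
def sgn (i : Fin n) : L := bif h i then 1 else -1

/-- Value of the first member along the line at the `i`-th point. -/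
def aF (i : Fin n) : L := bif h i then 1 else -α i

/-- Value of the second member along the line at the `i`-th point. -/
def aG (i : Fin n) : L := bif h i then -α i else 1

/-- The infinitesimal deformation of a derivation and a change of basis. -/
noncomputable def theta : (Derivation k L L × (Fin 3 → L)) →ₗ[L] (L[X] × (Fin n → L)) where
  toFun x := (F * dpoly x.1 G - G * dpoly x.1 F + (C (x.2 0) * F ^ 2 + C (x.2 1) * (F * G) + C (x.2 2) * G ^ 2),
    fun i => -sgn h i * x.1 (α i) + (x.2 0 * aF h α i ^ 2 + x.2 1 * (aF h α i * aG h α i) + x.2 2 * aG h α i ^ 2))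
  map_add' x y := by
    ext1
    · simp only [Prod.fst_add, Prod.snd_add, dpoly_add_left, Pi.add_apply, map_add]; ring
    · funext i
      simp only [Prod.fst_add, Prod.snd_add, Pi.add_apply, Derivation.add_apply]; ring
  map_smul' c x := by
    ext1
    · simp only [Prod.smul_fst, Prod.smul_snd, dpoly_smul_left, Pi.smul_apply, smul_eq_mul, map_mul,
        RingHom.id_apply, smul_eq_C_mul]; ring
    · funext i
      simp only [Prod.smul_fst, Prod.smul_snd, Pi.smul_apply, smul_eq_mul, Derivation.smul_apply, RingHom.id_apply]; ring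

/-- Deformations allowed by the ramification. -/
noncomputable def allowed (d : ℕ) (e : Fin n → ℕ) (rel : Fin n → Fin n → Prop) : Submodule L (L[X] × (Fin n → L)) where
  carrier := {x | x.1 ∈ degreeLE L (2 * d : ℕ) ∧ (∀ i, (X - C (P i)) ^ (e i - 1) ∣ x.1 - C (x.2 i) * Hm h F G i ^ 2) ∧
    ∀ i j, rel i j → x.2 i = x.2 j}
  add_mem' := by
    rintro x y ⟨h1, h2, h3⟩ ⟨g1, g2, g3⟩
    refine ⟨add_mem h1 g1, fun i => ?_, fun i j hij => by simp [h3 i j hij, g3 i j hij]⟩
    have := dvd_add (h2 i) (g2 i)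
    convert this using 1
    simp only [Prod.fst_add, Prod.snd_add, Pi.add_apply, map_add]
    ring
  zero_mem' := ⟨zero_mem _, fun i => by simp, fun i j _ => rfl⟩
  smul_mem' c x := by
    rintro ⟨h1, h2, h3⟩
    refine ⟨Submodule.smul_mem _ c h1, fun i => ?_, fun i j hij => by simp [h3 i j hij]⟩
    have := (h2 i).mul_left (C c)
    convert this using 1
    simp only [Prod.smul_fst, Prod.smul_snd, Pi.smul_apply, smul_eq_mul, smul_eq_C_mul, map_mul]
    ring

variable {h F G P α}

theorem theta_mem (hg : Good d g e h F G P α) (rel : Fin n → Fin n → Prop)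
    (hrel : ∀ i j, rel i j → h i = h j ∧ α i = α j) (x : Derivation k L L × (Fin 3 → L)) :
    theta h F G α x ∈ allowed h F G P d e rel := by
  obtain ⟨D, c⟩ := x
  refine ⟨mem_degreeLE.2 (natDegree_le_iff_degree_le.1 ?_), fun i => ?_, fun i j hij => ?_⟩
  · have hF := hg.degF
    have hG : G.natDegree ≤ d := hg.degG.trans hg.lt.le
    have hDF := natDegree_dpoly_le D hF
    have hDG := natDegree_dpoly_le D hG
    show (F * dpoly D G - G * dpoly D F + (C (c 0) * F ^ 2 + C (c 1) * (F * G) + C (c 2) * G ^ 2)).natDegree ≤ 2 * d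
    have hm : ∀ {a b : L[X]}, a.natDegree ≤ d → b.natDegree ≤ d → (a * b).natDegree ≤ 2 * d := fun ha hb =>
      natDegree_mul_le.trans (by omega)
    refine natDegree_add_le_of_degree_le ((natDegree_sub_le_iff_left (hm hG hDF)).2 (hm hF hDG)) ?_
    refine natDegree_add_le_of_degree_le (natDegree_add_le_of_degree_le ?_ ?_) ?_ <;>
      refine (natDegree_C_mul_le _ _).trans ?_ <;> try simp only [pow_two]
    exacts [hm hF hF, hm hF hG, hm hG hG]
  · show (X - C (P i)) ^ (e i - 1) ∣ F * dpoly D G - G * dpoly D F +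
      (C (c 0) * F ^ 2 + C (c 1) * (F * G) + C (c 2) * G ^ 2) -
      C (-sgn h i * D (α i) + (c 0 * aF h α i ^ 2 + c 1 * (aF h α i * aG h α i) + c 2 * aG h α i ^ 2)) * Hm h F G i ^ 2
    obtain ⟨q, hq⟩ := hg.dvd i
    set s := Mm h F G i + C (α i) * Hm h F G i with hs
    have h1 : (X - C (P i)) ^ (e i - 1) ∣ s := (pow_dvd_pow _ (Nat.sub_le _ _)).trans (hg.dvd i)
    have h2 : (X - C (P i)) ^ (e i - 1) ∣ dpoly D s := by
      rw [hq, dpoly_mul, dpoly_pow]
      exact dvd_add (((pow_dvd_pow _ (Nat.sub_le _ _)).mul_right _)) (((dvd_mul_left _ _)).mul_left _)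
    have hds : dpoly D s = dpoly D (Mm h F G i) + (C (α i) * dpoly D (Hm h F G i) + Hm h F G i * C (D (α i))) := by
      rw [hs, dpoly_add, dpoly_mul, dpoly_C]
    rcases hb : h i with _ | _
    · simp only [Hm, Mm, sgn, aF, aG, hb, cond_false] at hds ⊢
      have hF' : F = s - C (α i) * G := by rw [hs]; simp only [Hm, Mm, hb, cond_false]; ring
      have hFd : dpoly D F = dpoly D s - C (α i) * dpoly D G - G * C (D (α i)) := by rw [hds]; ring
      have := dvd_add (dvd_sub (h1.mul_right (dpoly D G)) (h2.mul_left G))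
        (h1.mul_right (C (c 0) * (s - 2 * C (α i) * G) + C (c 1) * G))
      convert this using 1
      rw [hFd, hF']
      simp only [map_add, map_mul, map_neg, map_one, map_pow]
      ring
    · simp only [Hm, Mm, sgn, aF, aG, hb, cond_true] at hds ⊢
      have hG' : G = s - C (α i) * F := by rw [hs]; simp only [Hm, Mm, hb, cond_true]; ring
      have hGd : dpoly D G = dpoly D s - C (α i) * dpoly D F - F * C (D (α i)) := by rw [hds]; ring
      have := dvd_add (dvd_sub (h2.mul_left F) (h1.mul_right (dpoly D F)))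
        (h1.mul_right (C (c 2) * (s - 2 * C (α i) * F) + C (c 1) * F))
      convert this using 1
      rw [hGd, hG']
      simp only [map_add, map_mul, map_neg, map_one, map_pow]
      ring
  · obtain ⟨h1, h2⟩ := hrel i j hij
    show -sgn h i * D (α i) + _ = -sgn h j * D (α j) + _
    simp only [sgn, aF, aG, h1, h2]

theorem theta_injective (hg : Good d g e h F G P α)
    (hgen : ∀ D : Derivation k L L, (∀ i, D (F.coeff i) = 0) → (∀ i, D (G.coeff i) = 0) → (∀ i, D (P i) = 0) →
      (∀ i, D (α i) = 0) → D = 0) :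
    Function.Injective (theta (k := k) h F G α) := by
  refine (injective_iff_map_eq_zero _).2 fun x hx => ?_
  obtain ⟨D, c⟩ := x
  have h1 : F * dpoly D G - G * dpoly D F + (C (c 0) * F ^ 2 + C (c 1) * (F * G) + C (c 2) * G ^ 2) = 0 :=
    congrArg Prod.fst hx
  have hdvd : F ∣ dpoly D F - C (c 2) * G := hg.coprime.dvd_of_dvd_mul_right (z := G)
    ⟨dpoly D G + C (c 0) * F + C (c 1) * G, by linear_combination -h1⟩
  obtain ⟨m, hm⟩ := hdvd
  have hF0 : F ≠ 0 := fun h0 => by simpa [h0] using hg.Fd
  have hle : (dpoly D F - C (c 2) * G).natDegree ≤ d :=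
    (natDegree_sub_le_iff_left ((natDegree_C_mul_le _ _).trans (hg.degG.trans hg.lt.le))).2
      (natDegree_dpoly_le D hg.degF)
  have hFd : F.natDegree = d := le_antisymm hg.degF (le_natDegree_of_ne_zero (by rw [hg.Fd]; exact one_ne_zero))
  obtain ⟨m₀, rfl⟩ : ∃ m₀, m = C m₀ := by
    rcases eq_or_ne m 0 with rfl | hm0
    · exact ⟨0, map_zero C |>.symm⟩
    · rw [hm, natDegree_mul hF0 hm0, hFd] at hle
      exact ⟨_, eq_C_of_natDegree_eq_zero (by omega)⟩
  have hGd : G.coeff d = 0 := coeff_eq_zero_of_natDegree_lt (hg.degG.trans_lt hg.lt)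
  have hd' := congrArg (coeff · d) hm
  simp only [coeff_sub, coeff_dpoly, hg.Fd, Derivation.map_one_eq_zero, coeff_C_mul, hGd, mul_zero, sub_zero,
    coeff_mul_C, one_mul] at hd'
  subst hd'
  simp only [map_zero, mul_zero] at hm
  have hg' := congrArg (coeff · g) hm
  simp only [coeff_sub, coeff_dpoly, hg.Fg, map_zero, coeff_C_mul, hg.Gg, mul_one, zero_sub, coeff_zero, neg_eq_zero] at hg'
  have hDF : dpoly D F = 0 := by rwa [hg', map_zero, zero_mul, sub_zero] at hm
  have h2 : dpoly D G + C (c 0) * F + C (c 1) * G = 0 := by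
    refine mul_left_cancel₀ hF0 ?_
    rw [mul_zero]
    rw [hDF, hg', map_zero] at h1
    linear_combination h1
  have hc0 := congrArg (coeff · d) h2
  simp only [coeff_add, coeff_dpoly, hGd, map_zero, coeff_C_mul, hg.Fd, mul_one, mul_zero, zero_add, add_zero,
    coeff_zero] at hc0
  have hc1 := congrArg (coeff · g) h2
  simp only [coeff_add, coeff_dpoly, hg.Gg, Derivation.map_one_eq_zero, coeff_C_mul, hg.Fg, mul_one, mul_zero,
    zero_add, add_zero, coeff_zero] at hc1
  have hDG : dpoly D G = 0 := by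
    rw [hc0, hc1, map_zero, zero_mul, zero_mul, add_zero, add_zero] at h2; exact h2
  have hc : c = 0 := by
    funext i
    fin_cases i
    exacts [hc0, hc1, hg']
  have hα : ∀ i, D (α i) = 0 := fun i => by
    have := congrFun (congrArg Prod.snd hx) i
    change -sgn h i * D (α i) + _ = (0 : L) at this
    simp only [hc0, hc1, hg', zero_mul, add_zero] at this
    refine (mul_eq_zero.1 this).resolve_left ?_
    rcases hb : h i with _ | _ <;> simp [sgn, hb]
  have hP : ∀ i, D (P i) = 0 := fun i => by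
    obtain ⟨q, hq⟩ := hg.dvd i
    have h3 := congrArg (dpoly D) hq
    rw [dpoly_add, dpoly_mul, dpoly_C, hα, map_zero, mul_zero, add_zero,
      show dpoly D (Mm h F G i) = 0 by cases hb : h i <;> simp [Mm, hb, hDF, hDG],
      show dpoly D (Hm h F G i) = 0 by cases hb : h i <;> simp [Hm, hb, hDF, hDG], mul_zero, add_zero,
      dpoly_mul, dpoly_pow] at h3
    have h4 : (X - C (P i)) ^ (e i - 1) * ((X - C (P i)) * dpoly D q - C ((e i : L) * D (P i)) * q) = 0 := by
      have he : (X - C (P i)) ^ e i = (X - C (P i)) ^ (e i - 1) * (X - C (P i)) := by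
        rw [← pow_succ, Nat.sub_add_cancel (hg.two i)]
      rw [he] at h3
      linear_combination -h3
    have h5 := congrArg (eval (P i)) ((mul_eq_zero.1 h4).resolve_left (pow_ne_zero _ (X_sub_C_ne_zero _)))
    simp only [eval_sub, eval_mul, eval_X, eval_C, sub_self, zero_mul, zero_sub, neg_eq_zero, mul_eq_zero,
      eval_zero] at h5
    refine (h5.resolve_right fun h6 => hg.ndvd i ?_).resolve_left (hg.cast i)
    rw [hq, pow_succ]
    exact mul_dvd_mul_left _ (dvd_iff_isRoot.2 h6)
  have hD : D = 0 := hgen D (fun i => by rw [← coeff_dpoly, hDF, coeff_zero])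
    (fun i => by rw [← coeff_dpoly, hDG, coeff_zero]) hP hα
  rw [hD, hc]
  rfl

theorem finrank_allowed_le (hg : Good d g e h F G P α) (rel : Fin n → Fin n → Prop) :
    Module.Finite L (allowed h F G P d e rel) ∧
      Module.finrank L (allowed h F G P d e rel) ≤ n + 3 ∧
      ((∃ i j, i ≠ j ∧ rel i j) → Module.finrank L (allowed h F G P d e rel) + 1 ≤ n + 3) := by
  classical
  let Φ : L[X] := ∏ i, (X - C (P i)) ^ (e i - 1)
  let Z := allowed h F G P d e rel
  haveI : Module.Finite L (degreeLE L (2 * d : ℕ)) := by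
    refine ⟨(Submodule.fg_top _).2 ?_⟩
    rw [degreeLE_eq_span_X_pow]
    exact ⟨_, rfl⟩
  let inc : Z →ₗ[L] degreeLE L (2 * d : ℕ) × (Fin n → L) :=
    { toFun := fun x => (⟨x.1.1, x.2.1⟩, x.1.2)
      map_add' := fun _ _ => rfl
      map_smul' := fun _ _ => rfl }
  haveI hfin : Module.Finite L Z := Module.Finite.of_injective inc fun x y hxy => by
    simp only [inc, LinearMap.coe_mk, AddHom.coe_mk, Prod.mk.injEq, Subtype.mk.injEq] at hxy
    exact Subtype.ext (Prod.ext hxy.1 hxy.2)
  let π : Z →ₗ[L] (Fin n → L) := (LinearMap.snd L L[X] (Fin n → L)).comp Z.subtype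
  have hq : ∀ x : LinearMap.ker π, Φ * (x.1.1.1 /ₘ Φ) = x.1.1.1 := fun x => by
    have hx2 : x.1.1.2 = 0 := LinearMap.mem_ker.1 x.2
    have hdvd : Φ ∣ x.1.1.1 := by
      refine Finset.prod_dvd_of_coprime (fun i _ j _ hij => (pairwise_coprime_X_sub_C hg.inj hij).pow) fun i _ => ?_
      have := x.1.2.2.1 i
      rwa [hx2, Pi.zero_apply, map_zero, zero_mul, sub_zero] at this
    obtain ⟨q, hq⟩ := hdvd
    rw [hq, mul_divByMonic_cancel_left _ (Good.phi_monic P e)]
  let κ : LinearMap.ker π →ₗ[L] degreeLT L 3 :=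
    { toFun := fun x => ⟨x.1.1.1 /ₘ Φ, by
        rw [mem_degreeLT]
        refine degree_le_natDegree.trans_lt ?_
        have h1 : x.1.1.1.natDegree ≤ 2 * d := natDegree_le_iff_degree_le.2 (mem_degreeLE.1 x.1.2.1)
        have h2 : (x.1.1.1 /ₘ Φ).natDegree < 3 := by
          rw [natDegree_divByMonic _ (Good.phi_monic P e),
            natDegree_prod_of_monic _ _ fun i _ => (monic_X_sub_C _).pow _]
          simp only [natDegree_pow, natDegree_X_sub_C, mul_one]
          have := hg.sum
          omega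
        exact_mod_cast h2⟩
      map_add' := fun x y => Subtype.ext (mul_left_cancel₀ (Good.phi_monic P e).ne_zero
        ((hq (x + y)).trans ((congrArg₂ (· + ·) (hq x) (hq y)).symm.trans (mul_add Φ _ _).symm)))
      map_smul' := fun c x => Subtype.ext (mul_left_cancel₀ (Good.phi_monic P e).ne_zero
        ((hq (c • x)).trans ((congrArg (c • ·) (hq x)).symm.trans (mul_smul_comm c Φ _).symm))) }
  have hκ : Function.Injective κ := (injective_iff_map_eq_zero _).2 fun x hx => by
    have hx2 : x.1.1.2 = 0 := LinearMap.mem_ker.1 x.2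
    have hdvd : Φ ∣ x.1.1.1 := by
      refine Finset.prod_dvd_of_coprime (fun i _ j _ hij => (pairwise_coprime_X_sub_C hg.inj hij).pow) fun i _ => ?_
      have := x.1.2.2.1 i
      rwa [hx2, Pi.zero_apply, map_zero, zero_mul, sub_zero] at this
    obtain ⟨q, hq⟩ := hdvd
    have h0 : x.1.1.1 /ₘ Φ = 0 := congrArg Subtype.val hx
    rw [hq, mul_divByMonic_cancel_left _ (Good.phi_monic P e)] at h0
    rw [h0, mul_zero] at hq
    exact Subtype.ext (Subtype.ext (Prod.ext hq hx2))
  have h3 : Module.finrank L (LinearMap.ker π) ≤ 3 := by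
    refine (LinearMap.finrank_le_finrank_of_injective hκ).trans ?_
    rw [(degreeLTEquiv L 3).finrank_eq, Module.finrank_fin_fun]
  have hrn := π.finrank_range_add_finrank_ker
  refine ⟨hfin, ?_, ?_⟩
  · have := (Submodule.finrank_le (LinearMap.range π)).trans_eq (Module.finrank_fin_fun L)
    show Module.finrank L Z ≤ _
    omega
  · rintro ⟨i, j, hij, hr⟩
    have hlt : LinearMap.range π < ⊤ := by
      refine lt_top_iff_ne_top.2 fun htop => ?_
      obtain ⟨x, hx⟩ := htop.symm ▸ (Submodule.mem_top : (Pi.single i (1 : L) : Fin n → L) ∈ ⊤)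
      have := x.2.2.2 i j hr
      change π x i = π x j at this
      rw [hx, Pi.single_eq_same, Pi.single_eq_of_ne hij.symm] at this
      exact one_ne_zero this
    have := Submodule.finrank_lt hlt.ne
    rw [Module.finrank_fin_fun] at this
    show Module.finrank L Z + 1 ≤ _
    omega

/-- The tangent bound. -/
theorem finrank_omega_le [Module.Finite L Ω[L⁄k]] (hg : Good d g e h F G P α)
    (rel : Fin n → Fin n → Prop) (hrel : ∀ i j, rel i j → h i = h j ∧ α i = α j)
    (hgen : ∀ D : Derivation k L L, (∀ i, D (F.coeff i) = 0) → (∀ i, D (G.coeff i) = 0) → (∀ i, D (P i) = 0) →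
      (∀ i, D (α i) = 0) → D = 0) :
    Module.finrank L Ω[L⁄k] ≤ n ∧ ((∃ i j, i ≠ j ∧ rel i j) → Module.finrank L Ω[L⁄k] + 1 ≤ n) := by
  obtain ⟨hfin, h1, h2⟩ := finrank_allowed_le hg rel
  haveI := hfin
  haveI : Module.Finite L (Derivation k L L) := Module.Finite.equiv (KaehlerDifferential.linearMapEquivDerivation k L)
  have hle := LinearMap.finrank_le_finrank_of_injective
    (f := (theta (k := k) h F G α).codRestrict (allowed h F G P d e rel) (theta_mem hg rel hrel))
    fun x y hxy => theta_injective hg hgen (congrArg Subtype.val hxy)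
  have e1 : Module.finrank L (Derivation k L L) = Module.finrank L Ω[L⁄k] :=
    (KaehlerDifferential.linearMapEquivDerivation k L).finrank_eq.symm.trans Subspace.dual_finrank_eq
  rw [Module.finrank_prod, Module.finrank_fin_fun, e1] at hle
  exact ⟨by omega, fun hex => by have := h2 hex; omega⟩

end Groth.Agent.RamP1.Rigid
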