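import Mathlib
import Groth.Agent.RamP1.Basic

/-!
# Three branch points
-/

set_option autoImplicit false
universe u

namespace Groth.Agent.RamP1

open Polynomial W4c1limliniiii

variable {k : Type u} [Field k] {p d : ℕ} {P : Fin 3 → k} {e : Fin 3 → ℕ}

/-- Pairs of polynomials with the three vanishing conditions. -/
noncomputable def trip (d : ℕ) (P : Fin 3 → k) (e : Fin 3 → ℕ) : Submodule k (k[X] × k[X]) where
  carrier := {v | v.1 ∈ degreeLE k d ∧ v.2 ∈ degreeLE k d ∧ (X - C (P 0)) ^ e 0 ∣ v.1 ∧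
    (X - C (P 1)) ^ e 1 ∣ v.2 ∧ (X - C (P 2)) ^ e 2 ∣ v.1 + v.2}
  add_mem' := by
    rintro v w ⟨h1, h2, h3, h4, h5⟩ ⟨g1, g2, g3, g4, g5⟩
    refine ⟨add_mem h1 g1, add_mem h2 g2, dvd_add h3 g3, dvd_add h4 g4, ?_⟩
    have := dvd_add h5 g5
    rwa [add_add_add_comm] at this
  zero_mem' := by simp
  smul_mem' := by
    rintro c v ⟨h1, h2, h3, h4, h5⟩
    refine ⟨Submodule.smul_mem _ c h1, Submodule.smul_mem _ c h2, ?_, ?_, ?_⟩
    · exact dvd_smul_of_dvd c h3
    · exact dvd_smul_of_dvd c h4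
    · show _ ∣ c • v.1 + c • v.2
      rw [← smul_add]
      exact dvd_smul_of_dvd c h5

theorem mem_trip {v : k[X] × k[X]} : v ∈ trip d P e ↔ v.1 ∈ degreeLE k d ∧ v.2 ∈ degreeLE k d ∧
    (X - C (P 0)) ^ e 0 ∣ v.1 ∧ (X - C (P 1)) ^ e 1 ∣ v.2 ∧ (X - C (P 2)) ^ e 2 ∣ v.1 + v.2 := Iff.rfl

theorem lt_add (he : Admissible p d e) (i j : Fin 3) (hij : i ≠ j) : d < e i + e j := by
  have h := he.2
  rw [Fin.sum_univ_three] at h
  have := (he.1 0).2.1
  have := (he.1 1).2.1
  have := (he.1 2).2.1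
  fin_cases i <;> fin_cases j <;> simp at hij ⊢ <;> omega

theorem eq_zero_of_two {i j : Fin 3} (hP : Function.Injective P) (he : Admissible p d e) (hij : i ≠ j) {s : k[X]}
    (hs : s ∈ degreeLE k d) (hi : (X - C (P i)) ^ e i ∣ s) (hj : (X - C (P j)) ^ e j ∣ s) : s = 0 := by
  by_contra h
  have := natDegree_le_of_dvd ((pairwise_coprime_X_sub_C hP hij).pow.mul_dvd hi hj) h
  rw [natDegree_mul (pow_ne_zero _ (X_sub_C_ne_zero _)) (pow_ne_zero _ (X_sub_C_ne_zero _)), natDegree_pow,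
    natDegree_pow, natDegree_X_sub_C, natDegree_X_sub_C] at this
  have := natDegree_le_iff_degree_le.2 (mem_degreeLE.1 hs)
  have := lt_add he i j hij
  omega

theorem li_trip (hP : Function.Injective P) (he : Admissible p d e) {v : k[X] × k[X]} (hv : v ∈ trip d P e)
    (hv0 : v ≠ 0) : LinearIndependent k ![v.1, v.2] ∧ v.1 ≠ 0 ∧ v.2 ≠ 0 ∧ v.1 + v.2 ≠ 0 := by
  obtain ⟨h1, h2, h3, h4, h5⟩ := mem_trip.1 hv
  have hF : v.1 ≠ 0 := fun h => hv0 (Prod.ext h (eq_zero_of_two hP he (by decide : (1 : Fin 3) ≠ 2) h2 h4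
    (by rwa [h, zero_add] at h5)))
  have hli : LinearIndependent k ![v.1, v.2] := by
    rw [LinearIndependent.pair_iff' hF]
    intro a ha
    have hG : v.2 = 0 := eq_zero_of_two hP he (by decide : (0 : Fin 3) ≠ 1) h2 (ha ▸ dvd_smul_of_dvd a h3) h4
    exact hv0 (Prod.ext (eq_zero_of_two hP he (by decide : (0 : Fin 3) ≠ 2) h1 h3
      (by rwa [hG, add_zero] at h5)) hG)
  refine ⟨hli, hF, by simpa using hli.ne_zero 1, fun h => ?_⟩
  rw [LinearIndependent.pair_iff] at hli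
  exact one_ne_zero (hli 1 1 (by rw [one_smul, one_smul]; exact h)).1

theorem trip_schubert (hP : Function.Injective P) (he : Admissible p d e) {v : k[X] × k[X]} (hv : v ∈ trip d P e)
    (hv0 : v ≠ 0) : Submodule.span k {v.1, v.2} ≤ degreeLE k d ∧
      Module.finrank k (Submodule.span k {v.1, v.2}) = 2 ∧
      ∀ i, ∃ s ∈ Submodule.span k {v.1, v.2}, s ≠ 0 ∧ e i ≤ rootMultiplicity (P i) s := by
  obtain ⟨hli, hF, hG, hS⟩ := li_trip hP he hv hv0
  obtain ⟨h1, h2, h3, h4, h5⟩ := mem_trip.1 hv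
  refine ⟨Submodule.span_le.2 (by simp [Set.insert_subset_iff, h1, h2]), finrank_span_pair hli, fun i => ?_⟩
  fin_cases i
  · exact ⟨_, Submodule.subset_span (by simp), hF, (le_rootMultiplicity_iff hF).2 h3⟩
  · exact ⟨_, Submodule.subset_span (by simp), hG, (le_rootMultiplicity_iff hG).2 h4⟩
  · exact ⟨_, add_mem (Submodule.subset_span (by simp)) (Submodule.subset_span (by simp)), hS,
      (le_rootMultiplicity_iff hS).2 h5⟩

theorem exists_trip_eq (hP : Function.Injective P) (he : Admissible p d e) (V : Submodule k k[X])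
    (hV : V ≤ degreeLE k d) (hfr : Module.finrank k V = 2)
    (hs : ∀ i, ∃ s ∈ V, s ≠ 0 ∧ e i ≤ rootMultiplicity (P i) s) :
    ∃ v ∈ trip d P e, v ≠ 0 ∧ Submodule.span k {v.1, v.2} = V := by
  choose s hs hs0 hse using hs
  have hsd : ∀ i, (X - C (P i)) ^ e i ∣ s i := fun i => (le_rootMultiplicity_iff (hs0 i)).1 (hse i)
  have hli : LinearIndependent k ![s 0, s 1] := by
    rw [LinearIndependent.pair_iff' (hs0 0)]
    intro a ha
    exact hs0 1 (eq_zero_of_two hP he (by decide : (0 : Fin 3) ≠ 1) (hV (hs 1))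
      (ha ▸ dvd_smul_of_dvd a (hsd 0)) (hsd 1))
  have hspan : Submodule.span k {s 0, s 1} = V := by
    haveI : FiniteDimensional k V := Module.finite_of_finrank_eq_succ hfr
    exact Submodule.eq_of_le_of_finrank_eq (Submodule.span_le.2 (by simp [Set.insert_subset_iff, hs]))
      (by rw [hfr, finrank_span_pair hli])
  obtain ⟨a, b, hab⟩ := Submodule.mem_span_pair.1 (hspan.symm ▸ hs 2)
  have ha : a ≠ 0 := by
    rintro rfl
    rw [zero_smul, zero_add] at hab
    exact hs0 2 (eq_zero_of_two hP he (by decide : (1 : Fin 3) ≠ 2) (hV (hs 2))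
      (hab ▸ dvd_smul_of_dvd b (hsd 1)) (hsd 2))
  have hb : b ≠ 0 := by
    rintro rfl
    rw [zero_smul, add_zero] at hab
    exact hs0 2 (eq_zero_of_two hP he (by decide : (0 : Fin 3) ≠ 2) (hV (hs 2))
      (hab ▸ dvd_smul_of_dvd a (hsd 0)) (hsd 2))
  refine ⟨(a • s 0, b • s 1), mem_trip.2 ⟨Submodule.smul_mem _ a (hV (hs 0)), Submodule.smul_mem _ b (hV (hs 1)),
    dvd_smul_of_dvd a (hsd 0), dvd_smul_of_dvd b (hsd 1), by rw [hab]; exact hsd 2⟩,
    fun h => hs0 0 (by simpa [ha] using congrArg Prod.fst h), ?_⟩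
  rw [← hspan]
  apply le_antisymm <;> rw [Submodule.span_le] <;> simp only [Set.insert_subset_iff, Set.singleton_subset_iff]
  · exact ⟨Submodule.smul_mem _ a (Submodule.subset_span (by simp)),
      Submodule.smul_mem _ b (Submodule.subset_span (by simp))⟩
  · refine ⟨?_, ?_⟩
    · have := Submodule.smul_mem (Submodule.span k {a • s 0, b • s 1}) a⁻¹
        (Submodule.subset_span (by simp : a • s 0 ∈ ({a • s 0, b • s 1} : Set k[X])))
      rwa [inv_smul_smul₀ ha] at this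
    · have := Submodule.smul_mem (Submodule.span k {a • s 0, b • s 1}) b⁻¹
        (Submodule.subset_span (by simp : b • s 1 ∈ ({a • s 0, b • s 1} : Set k[X])))
      rwa [inv_smul_smul₀ hb] at this

theorem trip_eq_of_span_eq (hP : Function.Injective P) (he : Admissible p d e) {v w : k[X] × k[X]}
    (hv : v ∈ trip d P e) (hw : w ∈ trip d P e) (hv0 : v ≠ 0) (hw0 : w ≠ 0)
    (h : Submodule.span k {v.1, v.2} = Submodule.span k {w.1, w.2}) : ∃ c : k, w = c • v := by
  obtain ⟨hli, hF, hG, hS⟩ := li_trip hP he hv hv0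
  obtain ⟨h1, h2, h3, h4, h5⟩ := mem_trip.1 hv
  obtain ⟨g1, g2, g3, g4, g5⟩ := mem_trip.1 hw
  obtain ⟨a, b, hab⟩ := Submodule.mem_span_pair.1 (h.symm ▸ Submodule.subset_span (by simp) :
    w.1 ∈ Submodule.span k {v.1, v.2})
  obtain ⟨a', b', hab'⟩ := Submodule.mem_span_pair.1 (h.symm ▸ Submodule.subset_span (by simp) :
    w.2 ∈ Submodule.span k {v.1, v.2})
  have hb : b = 0 := by
    by_contra hb
    refine hG (eq_zero_of_two hP he (by decide : (0 : Fin 3) ≠ 1) h2 ?_ h4)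
    have hdvd : (X - C (P 0)) ^ e 0 ∣ b • v.2 := by
      have := dvd_sub (hab.symm ▸ g3) (dvd_smul_of_dvd a h3)
      rwa [add_sub_cancel_left] at this
    have := dvd_smul_of_dvd b⁻¹ hdvd
    rwa [inv_smul_smul₀ hb] at this
  have ha' : a' = 0 := by
    by_contra ha'
    refine hF (eq_zero_of_two hP he (by decide : (1 : Fin 3) ≠ 0) h1 ?_ h3)
    have hdvd : (X - C (P 1)) ^ e 1 ∣ a' • v.1 := by
      have := dvd_sub (hab'.symm ▸ g4) (dvd_smul_of_dvd b' h4)
      rwa [add_sub_cancel_right] at this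
    have := dvd_smul_of_dvd a'⁻¹ hdvd
    rwa [inv_smul_smul₀ ha'] at this
  subst hb ha'
  rw [zero_smul, add_zero] at hab
  rw [zero_smul, zero_add] at hab'
  refine ⟨a, Prod.ext hab.symm ?_⟩
  show w.2 = a • v.2
  by_contra hne
  refine hG (eq_zero_of_two hP he (by decide : (2 : Fin 3) ≠ 1) h2 ?_ h4)
  have hdvd : (X - C (P 2)) ^ e 2 ∣ (b' - a) • v.2 := by
    have := dvd_sub g5 (dvd_smul_of_dvd a h5)
    rwa [← hab, ← hab', smul_add, add_sub_add_left_eq_sub, ← sub_smul] at this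
  have hba : b' - a ≠ 0 := fun h0 => hne (by rw [← hab', sub_eq_zero.1 h0])
  have := dvd_smul_of_dvd (b' - a)⁻¹ hdvd
  rwa [inv_smul_smul₀ hba] at this

theorem trip_ne_bot (he : Admissible p d e) : trip d P e ≠ ⊥ := by
  let M : Submodule k k[X] := degreeLT k (d + 1 - e 0)
  let M' : Submodule k k[X] := degreeLT k (d + 1 - e 1)
  have hsum := he.2
  rw [Fin.sum_univ_three] at hsum
  have := (he.1 0).2.1
  have := (he.1 1).2.1
  have hmon : ((X - C (P 2)) ^ e 2 : k[X]).Monic := (monic_X_sub_C _).pow _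
  have hdeg : ((X - C (P 2)) ^ e 2 : k[X]).degree = (e 2 : ℕ) := by
    rw [degree_pow, degree_X_sub_C, nsmul_eq_mul, mul_one]
  let A : ↥(degreeLT k (d + 1 - e 0)) × ↥(degreeLT k (d + 1 - e 1)) →ₗ[k] k[X] × k[X] :=
    LinearMap.prodMap ((LinearMap.mulLeft k ((X - C (P 0)) ^ e 0)) ∘ₗ Submodule.subtype _)
      ((LinearMap.mulLeft k ((X - C (P 1)) ^ e 1)) ∘ₗ Submodule.subtype _)
  let B : ↥(degreeLT k (d + 1 - e 0)) × ↥(degreeLT k (d + 1 - e 1)) →ₗ[k] ↥(degreeLT k (e 2)) :=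
    LinearMap.codRestrict _ ((modByMonicHom ((X - C (P 2)) ^ e 2)) ∘ₗ
      (LinearMap.fst k k[X] k[X] + LinearMap.snd k k[X] k[X]) ∘ₗ A) fun x => by
        rw [mem_degreeLT, ← hdeg]
        exact degree_modByMonic_lt _ hmon
  have hfin : ∀ N : ℕ, Module.finrank k ↥(degreeLT k N) = N := fun N => by
    rw [(degreeLTEquiv k N).finrank_eq, Module.finrank_fin_fun]
  haveI : ∀ N : ℕ, FiniteDimensional k ↥(degreeLT k N) := fun N =>
    Module.Finite.equiv (degreeLTEquiv k N).symm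
  have hker : LinearMap.ker B ≠ ⊥ := LinearMap.ker_ne_bot_of_finrank_lt (by
    rw [Module.finrank_prod, hfin, hfin, hfin]; omega)
  obtain ⟨⟨f, g⟩, hx, hx0⟩ := Submodule.exists_mem_ne_zero_of_ne_bot hker
  have hle : ∀ (i : Fin 3) (q : ↥(degreeLT k (d + 1 - e i))), e i ≤ d →
      (X - C (P i)) ^ e i * (q : k[X]) ∈ degreeLE k d := by
    intro i q hi
    rw [mem_degreeLE, ← natDegree_le_iff_degree_le]
    rcases eq_or_ne (q : k[X]) 0 with h0 | h0
    · simp [h0]
    have hq := q.2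
    rw [mem_degreeLT, ← natDegree_lt_iff_degree_lt h0] at hq
    refine natDegree_mul_le.trans ?_
    rw [natDegree_pow, natDegree_X_sub_C]
    omega
  intro hbot
  have hmem : A (f, g) ∈ trip d P e := by
    refine mem_trip.2 ⟨hle 0 f (he.1 0).2.1, hle 1 g (he.1 1).2.1, dvd_mul_right _ _, dvd_mul_right _ _, ?_⟩
    rw [LinearMap.mem_ker] at hx
    exact (modByMonic_eq_zero_iff_dvd hmon).1 (congrArg Subtype.val hx)
  rw [hbot, Submodule.mem_bot] at hmem
  refine hx0 (Prod.ext (Subtype.ext ?_) (Subtype.ext ?_))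
  · exact (mul_eq_zero.1 (congrArg Prod.fst hmem)).resolve_left (pow_ne_zero _ (X_sub_C_ne_zero _))
  · exact (mul_eq_zero.1 (congrArg Prod.snd hmem)).resolve_left (pow_ne_zero _ (X_sub_C_ne_zero _))

theorem schubert_three (hP : Function.Injective P) (he : Admissible p d e) :
    ∃ L : Submodule k (k[X] × k[X]), L ≠ ⊥ ∧
      (∀ v ∈ L, v ≠ 0 →
        Submodule.span k {v.1, v.2} ≤ Polynomial.degreeLE k d ∧
          Module.finrank k (Submodule.span k {v.1, v.2}) = 2 ∧
          ∀ i, ∃ s ∈ Submodule.span k {v.1, v.2}, s ≠ 0 ∧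
            e i ≤ Polynomial.rootMultiplicity (P i) s) ∧
      (∀ V : Submodule k k[X], V ≤ Polynomial.degreeLE k d → Module.finrank k V = 2 →
        (∀ i, ∃ s ∈ V, s ≠ 0 ∧ e i ≤ Polynomial.rootMultiplicity (P i) s) →
          ∃ v ∈ L, v ≠ 0 ∧ Submodule.span k {v.1, v.2} = V) ∧
      (∀ v ∈ L, ∀ w ∈ L, v ≠ 0 → w ≠ 0 →
        Submodule.span k {v.1, v.2} = Submodule.span k {w.1, w.2} → ∃ c : k, w = c • v) :=
  ⟨trip d P e, trip_ne_bot he, fun _ hv hv0 => trip_schubert hP he hv hv0, exists_trip_eq hP he,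
    fun _ hv _ hw hv0 hw0 h => trip_eq_of_span_eq hP he hv hw hv0 hw0 h⟩

theorem trip_eq_smul [IsAlgClosed k] (hP : Function.Injective P) (he : Admissible p d e) {v w : k[X] × k[X]}
    (hv : v ∈ trip d P e) (hv0 : v ≠ 0) (hV : Submodule.span k {v.1, v.2} ∈ ramMaps d P e)
    (hw : w ∈ trip d P e) : ∃ c : k, w = c • v := by
  obtain ⟨hli, hF, hG, hS⟩ := li_trip hP he hv hv0
  obtain ⟨h1, h2, h3, h4, h5⟩ := mem_trip.1 hv
  obtain ⟨g1, g2, g3, g4, g5⟩ := mem_trip.1 hw
  have hH : w.1 * v.2 - w.2 * v.1 = 0 := by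
    by_contra hH
    have := sum_le_natDegree hP hH (f := e) fun i => by
      fin_cases i
      · exact dvd_sub (g3.mul_right _) (h3.mul_left _)
      · exact dvd_sub (h4.mul_left _) (g4.mul_right _)
      · have := dvd_sub (g5.mul_right v.2) (h5.mul_left w.2)
        rwa [show (w.1 + w.2) * v.2 - w.2 * (v.1 + v.2) = w.1 * v.2 - w.2 * v.1 by ring] at this
    have hd : (w.1 * v.2 - w.2 * v.1).natDegree ≤ 2 * d := by
      have := natDegree_le_iff_degree_le.2 (mem_degreeLE.1 h1)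
      have := natDegree_le_iff_degree_le.2 (mem_degreeLE.1 h2)
      have := natDegree_le_iff_degree_le.2 (mem_degreeLE.1 g1)
      have := natDegree_le_iff_degree_le.2 (mem_degreeLE.1 g2)
      refine (natDegree_sub_le _ _).trans (max_le ?_ ?_) <;> refine natDegree_mul_le.trans ?_ <;> omega
    have := he.2
    omega
  have hcop : IsCoprime v.1 v.2 := by
    by_contra hc
    obtain ⟨a, ha1, ha2⟩ : ∃ a, IsRoot v.1 a ∧ IsRoot v.2 a := by
      classical
      rw [← EuclideanDomain.gcd_isUnit_iff] at hc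
      have h0 : EuclideanDomain.gcd v.1 v.2 ≠ 0 := fun h => hF (EuclideanDomain.gcd_eq_zero_iff.1 h).1
      obtain ⟨a, ha⟩ := IsAlgClosed.exists_root (EuclideanDomain.gcd v.1 v.2)
        (fun hdeg => hc (isUnit_iff_degree_eq_zero.2 hdeg))
      exact ⟨a, ha.dvd (EuclideanDomain.gcd_dvd_left _ _), ha.dvd (EuclideanDomain.gcd_dvd_right _ _)⟩
    obtain ⟨s, hs, hsa⟩ := hV.1.2.2.2 a
    obtain ⟨x, y, rfl⟩ := Submodule.mem_span_pair.1 hs
    exact hsa (by simp [ha1.eq_zero, ha2.eq_zero])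
  obtain ⟨h, hh⟩ : v.1 ∣ w.1 := hcop.dvd_of_dvd_mul_right ⟨w.2, by rw [sub_eq_zero.1 hH, mul_comm]⟩
  have hh2 : w.2 = v.2 * h := by
    refine mul_right_cancel₀ hF ?_
    rw [← sub_eq_zero.1 hH, hh]
    ring
  have hh0 : h.natDegree = 0 := by
    rcases eq_or_ne h 0 with rfl | hne
    · simp
    obtain ⟨s, hs, hsd⟩ := hV.1.2.2.1
    obtain ⟨x, y, rfl⟩ := Submodule.mem_span_pair.1 hs
    have hd1 := natDegree_le_iff_degree_le.2 (mem_degreeLE.1 g1)
    have hd2 := natDegree_le_iff_degree_le.2 (mem_degreeLE.1 g2)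
    rw [hh, natDegree_mul hF hne] at hd1
    rw [hh2, natDegree_mul hG hne] at hd2
    have := (natDegree_add_le (x • v.1) (y • v.2)).trans (max_le_max (natDegree_smul_le _ _) (natDegree_smul_le _ _))
    omega
  refine ⟨h.coeff 0, Prod.ext ?_ ?_⟩
  · show w.1 = h.coeff 0 • v.1
    rw [hh, smul_eq_C_mul, mul_comm, ← eq_C_of_natDegree_eq_zero hh0]
  · show w.2 = h.coeff 0 • v.2
    rw [hh2, smul_eq_C_mul, mul_comm, ← eq_C_of_natDegree_eq_zero hh0]

theorem subsingleton_and_empty_iff [IsAlgClosed k] (hP : Function.Injective P) (he : Admissible p d e) :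
    (ramMaps d P e).Subsingleton ∧
      (ramMaps d P e = ∅ ↔
        ∃ V : Submodule k k[X], V ≤ Polynomial.degreeLE k d ∧ Module.finrank k V = 2 ∧
          ¬ IsSeparable V ∧
          ∀ i, ∃ s ∈ V, s ≠ 0 ∧ e i ≤ Polynomial.rootMultiplicity (P i) s) := by
  have hsub : ∀ V ∈ ramMaps d P e, ∀ W : Submodule k k[X], W ≤ degreeLE k d → Module.finrank k W = 2 →
      (∀ i, ∃ s ∈ W, s ≠ 0 ∧ e i ≤ rootMultiplicity (P i) s) → W = V := by
    intro V hV W hW hW2 hWs
    obtain ⟨v, hv, hv0, rfl⟩ := exists_trip_eq hP he V hV.1.1 hV.1.2.1 fun i => (hV.2.2 i).1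
    obtain ⟨w, hw, hw0, rfl⟩ := exists_trip_eq hP he W hW hW2 hWs
    obtain ⟨c, rfl⟩ := trip_eq_smul hP he hv hv0 hV hw
    have hc : c ≠ 0 := fun h => hw0 (by rw [h, zero_smul])
    have := Submodule.span_smul_eq_of_isUnit ({v.1, v.2} : Set k[X]) c (Ne.isUnit hc)
    rw [Set.smul_set_insert, Set.smul_set_singleton] at this
    exact this
  refine ⟨fun V hV W hW => hsub W hW V hV.1.1 hV.1.2.1 fun i => (hV.2.2 i).1, ⟨fun hemp => ?_, ?_⟩⟩
  · obtain ⟨v, hv, hv0⟩ := Submodule.exists_mem_ne_zero_of_ne_bot (trip_ne_bot (P := P) he)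
    obtain ⟨h1, h2, h3⟩ := trip_schubert hP he hv hv0
    refine ⟨_, h1, h2, fun hsep => ?_, h3⟩
    have := mem_ramMaps hP he h1 h2 hsep h3
    rw [hemp] at this
    exact this
  · rintro ⟨V, h1, h2, hns, h3⟩
    rw [Set.eq_empty_iff_forall_notMem]
    intro W hW
    exact hns (hsub W hW V h1 h2 h3 ▸ hW.2.1)

theorem three_points_count [IsAlgClosed k] [CharP k p] (hP : Function.Injective P) (he : Admissible p d e) :
    (p ≠ 0 → e 0 < p → e 1 < p → p ≤ d → ramMaps d P e = ∅) ∧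
      (p = 0 ∨ d < p → ∃ V : Submodule k k[X], ramMaps d P e = {V}) := by
  classical
  obtain ⟨hsub, hiff⟩ := subsingleton_and_empty_iff hP he
  refine ⟨fun hp h0 h1 hpd => hiff.2 ?_, fun hp => ?_⟩
  · haveI : Fact p.Prime := ⟨(CharP.char_is_prime_or_zero k p).resolve_right hp⟩
    haveI : CharP k[X] p := inferInstance
    have hpow : ∀ a : k, (X - C a) ^ p = X ^ p - C (a ^ p) := fun a => by rw [sub_pow_char, C_pow]
    set h : k[X] := (X - C (P 2)) ^ (d - p) with hh
    have hh0 : h ≠ 0 := pow_ne_zero _ (X_sub_C_ne_zero _)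
    have hd : ∀ a : k, ((X - C a) ^ p * h).natDegree ≤ d := fun a => by
      rw [natDegree_mul (pow_ne_zero _ (X_sub_C_ne_zero _)) hh0, hh, natDegree_pow, natDegree_pow,
        natDegree_X_sub_C, natDegree_X_sub_C]
      omega
    have hne : ∀ a : k, (X - C a) ^ p * h ≠ 0 := fun a => mul_ne_zero (pow_ne_zero _ (X_sub_C_ne_zero _)) hh0
    have hli : LinearIndependent k ![(X - C (P 0)) ^ p * h, (X - C (P 1)) ^ p * h] := by
      rw [LinearIndependent.pair_iff' (hne _)]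
      intro a ha
      rw [← smul_mul_assoc] at ha
      have h3 := congrArg (eval (P 1)) (mul_right_cancel₀ hh0 ha)
      simp only [eval_smul, eval_pow, eval_sub, eval_X, eval_C, sub_self, smul_eq_mul,
        zero_pow hp, mul_eq_zero] at h3
      rcases h3 with rfl | h3
      · simp only [zero_smul] at ha
        exact hne (P 1) (by simpa using ha.symm)
      · exact absurd (sub_eq_zero.1 (pow_eq_zero_iff hp |>.1 h3)) fun h4 => absurd (hP h4) (by decide)
    refine ⟨Submodule.span k {(X - C (P 0)) ^ p * h, (X - C (P 1)) ^ p * h}, ?_, finrank_span_pair hli, ?_, ?_⟩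
    · rw [Submodule.span_le]
      simp only [Set.insert_subset_iff, Set.singleton_subset_iff, SetLike.mem_coe, mem_degreeLE]
      exact ⟨natDegree_le_iff_degree_le.1 (hd _), natDegree_le_iff_degree_le.1 (hd _)⟩
    · rw [isSeparable_span_iff, not_not, hpow, hpow]
      simp [wronskian, derivative_pow, CharP.cast_eq_zero k p]
      ring
    · intro i
      fin_cases i
      · exact ⟨_, Submodule.subset_span (by simp), hne _, (le_rootMultiplicity_iff (hne _)).2
          ((pow_dvd_pow _ h0.le).trans (dvd_mul_right _ _))⟩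
      · exact ⟨_, Submodule.subset_span (by simp), hne _, (le_rootMultiplicity_iff (hne _)).2
          ((pow_dvd_pow _ h1.le).trans (dvd_mul_right _ _))⟩
      · have hmem : (X - C (P 2)) ^ p * h ∈ Submodule.span k
            {(X - C (P 0)) ^ p * h, (X - C (P 1)) ^ p * h} := by
          have hne' : P 0 ^ p - P 1 ^ p ≠ 0 := by
            rw [← sub_pow_char]
            exact pow_ne_zero _ (sub_ne_zero.2 fun h => absurd (hP h) (by decide))
          rw [Submodule.mem_span_pair]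
          refine ⟨(P 2 ^ p - P 1 ^ p) / (P 0 ^ p - P 1 ^ p), (P 0 ^ p - P 2 ^ p) / (P 0 ^ p - P 1 ^ p), ?_⟩
          rw [hpow, hpow, hpow, smul_eq_C_mul, smul_eq_C_mul]
          set c := P 0 ^ p - P 1 ^ p
          have h1' : C ((P 2 ^ p - P 1 ^ p) / c) + C ((P 0 ^ p - P 2 ^ p) / c) = (1 : k[X]) := by
            rw [← C_add, ← add_div, sub_add_sub_cancel', div_self hne', C_1]
          have h2' : C ((P 2 ^ p - P 1 ^ p) / c) * C (P 0 ^ p) + C ((P 0 ^ p - P 2 ^ p) / c) * C (P 1 ^ p)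
              = C (P 2 ^ p) := by
            rw [← C_mul, ← C_mul, ← C_add]
            congr 1
            field_simp
            ring
          linear_combination (X ^ p * h) * h1' - h * h2'
        refine ⟨_, hmem, hne _, (le_rootMultiplicity_iff (hne _)).2 ?_⟩
        rw [hh, ← pow_add, Nat.add_sub_cancel' hpd]
        exact pow_dvd_pow _ (he.1 2).2.1
  · rcases Set.eq_empty_or_nonempty (ramMaps d P e) with h | ⟨V, hV⟩
    · obtain ⟨V, h1, h2, h3, -⟩ := hiff.1 h
      exact absurd (isSeparable_of_small hp h1 h2) h3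
    · exact ⟨V, hsub.eq_singleton_of_mem hV⟩

end Groth.Agent.RamP1
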